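import Cfsg.Agent.Coset.E6TwLocal.Mask

/-!
Subgroups with a non-maximal normaliser, through invariant subspaces of the Lie algebra of `E₆`.
-/

set_option autoImplicit false
set_option linter.unusedSectionVars false

namespace CfsgLib.Coset.E6TwLocal

open Cfsg.Lie Matrix CfsgLib.Chev CfsgLib.Chev.Tab CfsgLib.Chev.Quart CfsgLib.Chev.E6Five
  CfsgLib.Chev.E6Tw
open scoped MatrixGroups

variable {K : Type*} [Field K]

/-- The bracket is preserved by a matrix. -/
def Keeps (g : GL chevE6.Idx K) : Prop :=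
  ∀ u v : chevE6.Idx → K, br ((g : Matrix chevE6.Idx chevE6.Idx K) *ᵥ u)
    ((g : Matrix chevE6.Idx chevE6.Idx K) *ᵥ v) = (g : Matrix chevE6.Idx chevE6.Idx K) *ᵥ br u v

theorem keeps_group {g : GL chevE6.Idx K} (hg : g ∈ chevE6.group K) : Keeps g := by
  let H : Subgroup (GL chevE6.Idx K) :=
    { carrier := {g | Keeps g}
      one_mem' := fun u v => by simp
      mul_mem' := fun {a b} ha hb u v => by
        rw [Units.val_mul, ← mulVec_mulVec, ← mulVec_mulVec, ← mulVec_mulVec, ha, hb]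
      inv_mem' := fun {a} ha u v => by
        have h := ha ((↑a⁻¹ : Matrix chevE6.Idx chevE6.Idx K) *ᵥ u)
          ((↑a⁻¹ : Matrix chevE6.Idx chevE6.Idx K) *ᵥ v)
        rw [mulVec_mulVec, mulVec_mulVec, ← Units.val_mul, mul_inv_cancel, Units.val_one,
          one_mulVec, one_mulVec] at h
        rw [h, mulVec_mulVec, ← Units.val_mul, inv_mul_cancel, Units.val_one, one_mulVec] }
  suffices h : chevE6.group K ≤ H from h hg
  refine good_E6.group_le_iff.mpr fun r hr t => ?_
  show Keeps _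
  intro u v
  rw [good_E6.full.coe_x hr]
  simp only [br]
  rw [mulVec_mulVec, mulVec_mulVec, ← good_E6.full.cert.X_mul_ADR hr t u]

/-- The bracket as a bilinear map. -/
def brL : (chevE6.Idx → K) →ₗ[K] (chevE6.Idx → K) →ₗ[K] chevE6.Idx → K :=
  LinearMap.mk₂ K br
    (fun u u' v => by simp only [br, Tab.ADR_add, add_mulVec])
    (fun c u v => by simp only [br, Tab.ADR_smul, smul_mulVec])
    (fun u v v' => by simp only [br, mulVec_add])
    (fun c u v => by simp only [br, mulVec_smul])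

variable [Fintype K] (C : Ctx K 2)

/-- The action of the twisted group on the Lie algebra. -/
def act (g : C.Z.G1) : (chevE6.Idx → K) →ₗ[K] chevE6.Idx → K :=
  ((g : GL chevE6.Idx K) : Matrix chevE6.Idx chevE6.Idx K).mulVecLin

theorem act_one (v : chevE6.Idx → K) : act C 1 v = v := by simp [act]

theorem act_mul (g h : C.Z.G1) (v : chevE6.Idx → K) :
    act C (g * h) v = act C g (act C h v) := by
  simp [act, mulVec_mulVec]

theorem br_act (g : C.Z.G1) (u v : chevE6.Idx → K) :
    br (act C g u) (act C g v) = act C g (br u v) :=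
  keeps_group (show (g : GL chevE6.Idx K) ∈ chevE6.group K from (C.Z.le_fix g.2).1) u v

/-- The elements mapping a subspace into itself. -/
noncomputable def stabW (W : Submodule K (chevE6.Idx → K)) : Subgroup C.Z.G1 where
  carrier := {g | ∀ v ∈ W, act C g v ∈ W}
  one_mem' := fun v hv => by rwa [act_one]
  mul_mem' := fun {a b} ha hb v hv => by rw [act_mul]; exact ha _ (hb v hv)
  inv_mem' := fun {a} ha v hv => by
    classical
    have hp : ∀ k : ℕ, act C (a ^ k) v ∈ W := fun k => by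
      induction k with
      | zero => rwa [pow_zero, act_one]
      | succ k ih => rw [pow_succ', act_mul]; exact ha _ ih
    have h0 : 0 < orderOf a := orderOf_pos a
    have e : a⁻¹ = a ^ (orderOf a - 1) := by
      refine inv_eq_of_mul_eq_one_right ?_
      rw [← pow_succ', Nat.sub_add_cancel h0, pow_orderOf_eq_one]
    rw [e]
    exact hp _

/-- The normaliser of a subgroup is not maximal. -/
def NotMax (P : Subgroup C.Z.G1) : Prop := ¬ IsCoatom (Subgroup.normalizer (P : Set C.Z.G1))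

/-- The fixed vectors of a subgroup. -/
def fixP (P : Subgroup C.Z.G1) : Submodule K (chevE6.Idx → K) where
  carrier := {v | ∀ s ∈ P, act C s v = v}
  zero_mem' := fun s _ => map_zero _
  add_mem' := fun {u v} hu hv s hs => by rw [map_add, hu s hs, hv s hs]
  smul_mem' := fun c v hv s hs => by rw [map_smul, hv s hs]

/-- A subspace invariant under the normaliser. -/
def NInv (P : Subgroup C.Z.G1) (W : Submodule K (chevE6.Idx → K)) : Prop :=
  ∀ n ∈ Subgroup.normalizer (P : Set C.Z.G1), ∀ v ∈ W, act C n v ∈ W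

theorem conj_mem {P : Subgroup C.Z.G1} {n : C.Z.G1}
    (hn : n ∈ Subgroup.normalizer (P : Set C.Z.G1)) {s : C.Z.G1} (hs : s ∈ P) :
    n * s * n⁻¹ ∈ P :=
  (Subgroup.mem_normalizer_iff.mp hn s).mp hs

theorem act_conj (n s : C.Z.G1) (v : chevE6.Idx → K) :
    act C (n * s * n⁻¹) (act C n v) = act C n (act C s v) := by
  rw [← act_mul, ← act_mul, inv_mul_cancel_right]

theorem fixP_inv (P : Subgroup C.Z.G1) : NInv C P (fixP C P) := by
  intro n hn v hv s hs
  have h : n⁻¹ * s * n⁻¹⁻¹ ∈ P := conj_mem C (inv_mem hn) hs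
  have e := act_conj C n (n⁻¹ * s * n⁻¹⁻¹) v
  rw [hv _ h, show n * (n⁻¹ * s * n⁻¹⁻¹) * n⁻¹ = s by group] at e
  exact e

/-- The criterion. -/
theorem notMax_of_subspace (P : Subgroup C.Z.G1) {W : Submodule K (chevE6.Idx → K)}
    (hW : NInv C P W) {g g0 : C.Z.G1} (hg : ∀ v ∈ W, act C g v ∈ W)
    {f : chevE6.Idx → K} (hf : f ∈ fixP C P) {s : C.Z.G1} (hs : s ∈ P)
    (hgf : act C s (act C g f) ≠ act C g f)
    {w : chevE6.Idx → K} (hw : w ∈ W) (hgw : act C g0 w ∉ W) : NotMax C P := by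
  intro h
  have hlt : Subgroup.normalizer (P : Set C.Z.G1) < stabW C W := by
    refine lt_of_le_of_ne hW fun e => ?_
    have hgN : g ∈ Subgroup.normalizer (P : Set C.Z.G1) := by rw [e]; exact hg
    exact hgf (fixP_inv C P g hgN f hf s hs)
  have htop := h.2 _ hlt
  exact hgw ((show g0 ∈ stabW C W from htop ▸ Subgroup.mem_top g0) w hw)

/-- Invariance of a span. -/
theorem nInv_span (P : Subgroup C.Z.G1) {S : Set (chevE6.Idx → K)}
    (h : ∀ n ∈ Subgroup.normalizer (P : Set C.Z.G1), ∀ v ∈ S, act C n v ∈ Submodule.span K S) :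
    NInv C P (Submodule.span K S) := fun n hn =>
  Submodule.span_le.mpr (show S ⊆ ((Submodule.span K S).comap (act C n) : Set _) from h n hn)

/-- The span of the brackets of fixed vectors. -/
def brFix (P : Subgroup C.Z.G1) : Submodule K (chevE6.Idx → K) :=
  Submodule.span K {w | ∃ x ∈ fixP C P, ∃ y ∈ fixP C P, br x y = w}

theorem brFix_inv (P : Subgroup C.Z.G1) : NInv C P (brFix C P) := by
  refine nInv_span C P ?_
  rintro n hn _ ⟨x, hx, y, hy, rfl⟩
  rw [← br_act]
  exact Submodule.subset_span ⟨_, fixP_inv C P n hn x hx, _, fixP_inv C P n hn y hy, rfl⟩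

/-- The span of the brackets of vectors fixed by an element of the subgroup of odd trace. -/
def brTr (P : Subgroup C.Z.G1) : Submodule K (chevE6.Idx → K) :=
  Submodule.span K {w | ∃ s ∈ P,
    Matrix.trace ((s : GL chevE6.Idx K) : Matrix chevE6.Idx chevE6.Idx K) = 1 ∧
    ∃ x, act C s x = x ∧ ∃ y, act C s y = y ∧ br x y = w}

theorem brTr_inv (P : Subgroup C.Z.G1) : NInv C P (brTr C P) := by
  refine nInv_span C P ?_
  rintro n hn _ ⟨s, hs, htr, x, hx, y, hy, rfl⟩
  rw [← br_act]
  refine Submodule.subset_span ⟨n * s * n⁻¹, conj_mem C hn hs, ?_, _, ?_, _, ?_, rfl⟩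
  · rw [Subgroup.coe_mul, Subgroup.coe_mul, Subgroup.coe_inv, Units.val_mul, Units.val_mul,
      Matrix.trace_mul_cycle, ← Units.val_mul, inv_mul_cancel, Units.val_one, one_mul]
    exact htr
  · rw [act_conj, hx]
  · rw [act_conj, hy]

/-- The twisted sum of brackets over a subgroup. -/
noncomputable def phi (P : Subgroup C.Z.G1) (a : ℕ) :
    (chevE6.Idx → K) →ₗ[K] (chevE6.Idx → K) →ₗ[K] chevE6.Idx → K :=
  letI := Fintype.ofFinite P
  ∑ s : P, LinearMap.compl₂ (brL ∘ₗ act C ((s : C.Z.G1) ^ a)) (act C (s : C.Z.G1))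

theorem phi_apply (P : Subgroup C.Z.G1) [Fintype P] (a : ℕ) (u v : chevE6.Idx → K) :
    phi C P a u v = ∑ s : P, br (act C ((s : C.Z.G1) ^ a) u) (act C (s : C.Z.G1) v) := by
  have e : phi C P a = ∑ s : P,
      LinearMap.compl₂ (brL ∘ₗ act C ((s : C.Z.G1) ^ a)) (act C (s : C.Z.G1)) := by
    unfold phi
    congr 1
    exact Finset.ext fun x => by simp
  rw [e]
  simp only [LinearMap.sum_apply, LinearMap.compl₂_apply, LinearMap.comp_apply]
  rfl

theorem phi_conj (P : Subgroup C.Z.G1) (a : ℕ) {n : C.Z.G1}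
    (hn : n ∈ Subgroup.normalizer (P : Set C.Z.G1)) (u v : chevE6.Idx → K) :
    act C n (phi C P a u v) = phi C P a (act C n u) (act C n v) := by
  classical
  letI := Fintype.ofFinite P
  let e : P ≃ P :=
    { toFun := fun s => ⟨n * (s : C.Z.G1) * n⁻¹, conj_mem C hn s.2⟩
      invFun := fun s => ⟨n⁻¹ * (s : C.Z.G1) * n⁻¹⁻¹, conj_mem C (inv_mem hn) s.2⟩
      left_inv := fun s => Subtype.ext (by simp [mul_assoc])
      right_inv := fun s => Subtype.ext (by simp [mul_assoc]) }
  rw [phi_apply, phi_apply, map_sum]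
  refine Fintype.sum_equiv e _ _ fun s => ?_
  rw [← br_act, show ((e s : P) : C.Z.G1) = n * (s : C.Z.G1) * n⁻¹ from rfl, conj_pow, act_conj,
    act_conj]

theorem phi_shift (P : Subgroup C.Z.G1) (a : ℕ) (hP : ∀ x ∈ P, ∀ y ∈ P, Commute x y) {r : C.Z.G1}
    (hr : r ∈ P) (u v : chevE6.Idx → K) :
    phi C P a (act C (r ^ a) u) (act C r v) = phi C P a u v := by
  classical
  letI := Fintype.ofFinite P
  rw [phi_apply, phi_apply]
  refine Fintype.sum_equiv (Equiv.mulRight (⟨r, hr⟩ : P)) _ _ fun s => ?_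
  rw [← act_mul, ← act_mul, ← (hP _ s.2 _ hr).mul_pow]
  rfl

/-- The span of the twisted sums over a subspace. -/
def phiSpan (P : Subgroup C.Z.G1) (a : ℕ) (U : Submodule K (chevE6.Idx → K)) :
    Submodule K (chevE6.Idx → K) :=
  Submodule.span K {w | ∃ u ∈ U, ∃ v ∈ U, phi C P a u v = w}

theorem phiSpan_inv (P : Subgroup C.Z.G1) (a : ℕ) {U : Submodule K (chevE6.Idx → K)}
    (hU : NInv C P U) : NInv C P (phiSpan C P a U) := by
  refine nInv_span C P ?_
  rintro n hn _ ⟨u, hu, v, hv, rfl⟩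
  rw [phi_conj C P a hn]
  exact Submodule.subset_span ⟨_, hU n hn u hu, _, hU n hn v hv, rfl⟩

/-- Conjugate subgroups. -/
theorem notMax_map (e : C.Z.G1 ≃* C.Z.G1) {P : Subgroup C.Z.G1} (h : NotMax C P) :
    NotMax C (P.map e.toMonoidHom) := by
  intro hc
  refine h ?_
  have hn : (Subgroup.normalizer (P : Set C.Z.G1)).map e.toMonoidHom =
      Subgroup.normalizer ((P.map e.toMonoidHom : Subgroup C.Z.G1) : Set C.Z.G1) :=
    Subgroup.map_equiv_normalizer_eq P e
  rw [← hn] at hc
  exact ((MulEquiv.mapSubgroup e).isCoatom_iff _).mp hc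

end CfsgLib.Coset.E6TwLocal
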