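import Cfsg.Agent.Coset.E6TwLocal.Data11

/-!
The checks for the prime `11`.
-/

set_option autoImplicit false

namespace CfsgLib.Coset.E6TwLocal

open Cfsg.Lie CfsgLib.Chev CfsgLib.Chev.E6Tw

theorem data11_ok : (brOK br11 && stabOK br11.B br11.T stab11 &&
    peq (mv br11.T stab11.fv) stab11.fv) = true := by decide +kernel

end CfsgLib.Coset.E6TwLocal
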