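import Cfsg.Agent.Coset.E6TwLocal.Data13

/-!
The checks for the prime `13`.
-/

set_option autoImplicit false

namespace CfsgLib.Coset.E6TwLocal

open Cfsg.Lie CfsgLib.Chev CfsgLib.Chev.E6Tw

theorem word13_ok : wordOK tw13 phi13o.T = true := by decide +kernel
theorem ord13_ok : ordOK phi13o.T phi13o.p = true := by decide +kernel
theorem same13_ok : (peq phi13.T phi13o.T && Nat.beq phi13.p phi13o.p) = true := by decide +kernel
theorem data13_ok : (phiOK phi13o && topOK phi13o uc13o && phiOK phi13 &&
    innerOK phi13o phi13 uc13 kc13 && stabOK phi13.B phi13o.T stab13 &&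
    peq (mv phi13o.T stab13.fv) stab13.fv) = true := by decide +kernel

end CfsgLib.Coset.E6TwLocal
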