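import Cfsg.Agent.Coset.E6TwLocal.Data13

/-!
The checks for the prime `13`.
-/

set_option autoImplicit false

namespace CfsgLib.Coset.E6TwLocal

open Cfsg.Lie CfsgLib.Chev CfsgLib.Chev.E6Tw

theorem val13o_ok : phiValOK phi13o = true := by decide +kernel
theorem val13_ok : phiValOK phi13 = true := by decide +kernel

end CfsgLib.Coset.E6TwLocal
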