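import Cfsg.Agent.Coset.E6TwLocal.Data17

/-!
The checks for the prime `17`.
-/

set_option autoImplicit false

namespace CfsgLib.Coset.E6TwLocal

open Cfsg.Lie CfsgLib.Chev CfsgLib.Chev.E6Tw

theorem word17_ok : wordOK tw17 phi17.T = true := by decide +kernel
theorem ord17_ok : ordOK phi17.T phi17.p = true := by decide +kernel
theorem data17_ok : (phiOK phi17 && topOK phi17 uc17 && stabOK phi17.B phi17.T stab17 &&
    peq (mv phi17.T stab17.fv) stab17.fv) = true := by decide +kernel
theorem val17_ok : phiValOK phi17 = true := by decide +kernel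

end CfsgLib.Coset.E6TwLocal
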