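import Cfsg.Agent.Coset.E6TwLocal.Check19
import Cfsg.Agent.Coset.E6TwLocal.Check17
import Cfsg.Agent.Coset.E6TwLocal.Check13
import Cfsg.Agent.Coset.E6TwLocal.Check13v
import Cfsg.Agent.Coset.E6TwLocal.Check11

/-!
The checks for the primes `11`, `13`, `17` and `19`.
-/

set_option autoImplicit false

namespace CfsgLib.Coset.E6TwLocal

open Cfsg.Lie CfsgLib.Chev CfsgLib.Chev.E6Tw

variable {K : Type*} [Field K] [CharP K 2] {τ : K} (hτ : τ ^ 2 + τ + 1 = 0) [Fintype K] (C : Ctx K 2)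
include hτ

/-- For each of the four primes a subgroup of that order with a non-maximal normaliser. -/
theorem exists_cyclic {p : ℕ} (hp : p = 11 ∨ p = 13 ∨ p = 17 ∨ p = 19) :
    ∃ t : C.Z.G1, orderOf t = p ∧ NotMax C (Subgroup.zpowers t) := by
  rcases hp with rfl | rfl | rfl | rfl
  · have h := data11_ok
    simp only [Bool.and_eq_true] at h
    obtain ⟨hL, e1, e2⟩ := notMax_br hτ C (D := br11) (by decide) h.1.1 h.1.2 h.2
    exact ⟨_, e1, e2⟩
  · have h := data13_ok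
    simp only [Bool.and_eq_true] at h
    have hs := same13_ok
    simp only [Bool.and_eq_true, peq_iff, Nat.beq_eq] at hs
    obtain ⟨⟨⟨⟨⟨h1, h2⟩, h3⟩, h4⟩, h5⟩, h6⟩ := h
    obtain ⟨e1, e2⟩ := notMax_phi_two hτ C (D := phi13o) (E := phi13) (by decide) hs.1 hs.2
      word13_ok ord13_ok val13o_ok h1 h2 val13_ok h3 h4 h5 h6
    exact ⟨_, e1, e2⟩
  · have h := data17_ok
    simp only [Bool.and_eq_true] at h
    obtain ⟨⟨⟨h1, h2⟩, h3⟩, h4⟩ := h
    obtain ⟨e1, e2⟩ := notMax_phi hτ C (D := phi17) (by decide) word17_ok ord17_ok val17_ok h1 h2 h3 h4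
    exact ⟨_, e1, e2⟩
  · have h := data19_ok
    simp only [Bool.and_eq_true] at h
    obtain ⟨⟨⟨h1, h2⟩, h3⟩, h4⟩ := h
    obtain ⟨e1, e2⟩ := notMax_phi hτ C (D := phi19) (by decide) word19_ok ord19_ok val19_ok h1 h2 h3 h4
    exact ⟨_, e1, e2⟩

end CfsgLib.Coset.E6TwLocal
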