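import Cfsg.Agent.Coset.E6TwLocal.Data7

/-!
The checks for the subgroup of order `49`.
-/

set_option autoImplicit false

namespace CfsgLib.Coset.E6TwLocal

open Cfsg.Lie CfsgLib.Chev CfsgLib.Chev.E6Tw

theorem rel49_ok : sevenRelOK seven49 = true := by decide +kernel
theorem tr49_ok : sevenTrOK seven49 = true := by decide +kernel
theorem stab49_ok : (stabOK seven49.B (seven49.sub 0).T stab49 &&
    peq (mv seven49.TA stab49.fv) stab49.fv && peq (mv seven49.TB stab49.fv) stab49.fv) = true := by
  decide +kernel

end CfsgLib.Coset.E6TwLocal
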