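import Cfsg.Agent.Coset.E6TwLocal.Check7a
import Cfsg.Agent.Coset.E6TwLocal.Check7b
import Cfsg.Agent.Coset.E6TwLocal.Check7c
import Cfsg.Agent.Coset.E6TwLocal.Check7d
import Cfsg.Agent.Coset.E6TwLocal.Check49

/-!
The checks for the prime `7`.
-/

set_option autoImplicit false

namespace CfsgLib.Coset.E6TwLocal

open Cfsg.Lie CfsgLib.Chev CfsgLib.Chev.E6Tw

theorem chk7_ok : ∀ j < 8, chk7 j = true := by
  intro j hj
  interval_cases j
  exacts [chk7_0, chk7_1, chk7_2, chk7_3, chk7_4, chk7_5, chk7_6, chk7_7]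

variable {K : Type*} [Field K] [CharP K 2] {τ : K} (hτ : τ ^ 2 + τ + 1 = 0) [Fintype K] (C : Ctx K 2)
include hτ

/-- A subgroup of order `49` all of whose nontrivial subgroups have non-maximal normalisers. -/
theorem exists_seven :
    ∃ P : Subgroup C.Z.G1, Nat.card P = 49 ∧ NotMax C P ∧
      ∀ Q ≤ P, Nat.card Q = 7 → NotMax C Q := by
  classical
  haveI : Fact (Nat.Prime 7) := ⟨by norm_num⟩
  obtain ⟨a, b, u, hu, hu0, hu1, -, -, hmem, hall, hcard⟩ := seven hτ C rel49_ok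
  have hall7 : ∀ j < 8, orderOf (u j) = 7 ∧ NotMax C (Subgroup.zpowers (u j)) := by
    intro j hj
    have h := chk7_ok j hj
    simp only [chk7, Bool.and_eq_true, Nat.beq_eq] at h
    obtain ⟨⟨⟨hp, hbr⟩, hst⟩, hf⟩ := h
    obtain ⟨hL, e1, e2⟩ := notMax_br hτ C (by rw [hp]; norm_num) hbr hst hf
    obtain ⟨_, e⟩ := hu j hj
    rw [e]
    exact ⟨e1.trans hp, e2⟩
  have hbr : ∀ j < 8, brOK (seven49.sub j) = true := fun j hj => by
    have h := chk7_ok j hj
    simp only [chk7, Bool.and_eq_true] at h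
    exact h.1.1.2
  have h49 := stab49_ok
  simp only [Bool.and_eq_true] at h49
  refine ⟨Subgroup.closure {a, b}, hcard,
    notMax_seven hτ C hu hu0 hu1 hmem hall hbr tr49_ok (i := 0) (by norm_num) h49.1.1 h49.1.2 h49.2,
    fun Q hQ hQ7 => ?_⟩
  obtain ⟨s, hs, hs1⟩ : ∃ s ∈ Q, s ≠ 1 := by
    by_contra hne
    push_neg at hne
    rw [(Subgroup.eq_bot_iff_forall Q).mpr hne, Subgroup.card_bot] at hQ7
    norm_num at hQ7
  obtain ⟨j, hj, k, hk, rfl⟩ := hall s (hQ hs)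
  obtain ⟨ho, hnm⟩ := hall7 j hj
  have hle : Subgroup.zpowers (u j ^ k) ≤ Subgroup.zpowers (u j) :=
    Subgroup.zpowers_le.mpr (pow_mem (Subgroup.mem_zpowers _) k)
  have hok : orderOf (u j ^ k) = 7 := orderOf_eq_prime
    (by rw [← pow_mul, mul_comm, pow_mul, (hmem j hj).2, one_pow]) hs1
  have e1 : Subgroup.zpowers (u j ^ k) = Q := Subgroup.eq_of_le_of_card_ge
    (Subgroup.zpowers_le.mpr hs) (by rw [Nat.card_zpowers, hok, hQ7])
  have e2 : Subgroup.zpowers (u j ^ k) = Subgroup.zpowers (u j) :=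
    Subgroup.eq_of_le_of_card_ge hle (by rw [Nat.card_zpowers, Nat.card_zpowers, hok, ho])
  rw [← e1, e2]
  exact hnm

end CfsgLib.Coset.E6TwLocal
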