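import Cfsg.Agent.Coset.E6TwLocal.Data19

/-!
The checks for the prime `19`.
-/

set_option autoImplicit false

namespace CfsgLib.Coset.E6TwLocal

open Cfsg.Lie CfsgLib.Chev CfsgLib.Chev.E6Tw

theorem word19_ok : wordOK tw19 phi19.T = true := by decide +kernel
theorem ord19_ok : ordOK phi19.T phi19.p = true := by decide +kernel
theorem data19_ok : (phiOK phi19 && topOK phi19 uc19 && stabOK phi19.B phi19.T stab19 &&
    peq (mv phi19.T stab19.fv) stab19.fv) = true := by decide +kernel
theorem val19_ok : phiValOK phi19 = true := by decide +kernel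

end CfsgLib.Coset.E6TwLocal
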