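import Cfsg.Agent.Coset.E6TwLocal.Chk7

/-!
Checks for subgroups of order seven.
-/

set_option autoImplicit false

namespace CfsgLib.Coset.E6TwLocal

open Cfsg.Lie CfsgLib.Chev CfsgLib.Chev.E6Tw

theorem chk7_0 : chk7 0 = true := by decide +kernel
theorem chk7_1 : chk7 1 = true := by decide +kernel

end CfsgLib.Coset.E6TwLocal
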