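import Cfsg.Agent.Coset.E6TwLocal.Data7

/-!
The check of one subgroup of order seven.
-/

set_option autoImplicit false

namespace CfsgLib.Coset.E6TwLocal

open Cfsg.Lie CfsgLib.Chev CfsgLib.Chev.E6Tw

/-- The stabiliser data of the eight subgroups. -/
def stabs7 : List StabData :=
  [stab70, stab71, stab72, stab73, stab74, stab75, stab76, stab77]

/-- All checks of one subgroup of order seven. -/
def chk7 (j : ℕ) : Bool :=
  let D := seven49.sub j
  let S := stabs7.getD j stab49
  Nat.beq D.p 7 && brOK D && stabOK D.B D.T S && peq (mv D.T S.fv) S.fv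

end CfsgLib.Coset.E6TwLocal
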