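import Cfsg.Agent.Coset.E6TwLocal.Basic

/-!
Kernel checks which show that the normaliser of a subgroup generated by given words is not maximal.
-/

set_option autoImplicit false
set_option linter.unusedSectionVars false

namespace CfsgLib.Coset.E6TwLocal

open Cfsg.Lie Matrix CfsgLib.Chev CfsgLib.Chev.Tab CfsgLib.Chev.Quart CfsgLib.Chev.E6Five
  CfsgLib.Chev.E6Tw
open scoped MatrixGroups

/-- The data of an element of the stabiliser outside the normaliser and of one outside the stabiliser. -/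
structure StabData where
  gw : List (ℕ × ℕ)
  G : ℕ × ℕ
  GC : ℕ × ℕ
  fv : ℕ × ℕ
  g0w : List (ℕ × ℕ)
  G0 : ℕ × ℕ
  bi : ℕ
  FN : ℕ × ℕ

/-- The check of the stabiliser data for the basis `B` and the moved element `T`. -/
def stabOK (B T : ℕ × ℕ) (S : StabData) : Bool :=
  wordOK S.gw S.G && wordOK S.g0w S.G0 && mulEq S.G B B S.GC &&
    pne (mv T (mv S.G S.fv)) (mv S.G S.fv) &&
    allBelow (fun c => peq (mv S.FN (mcol B c)) (0, 0)) 78 && Nat.blt S.bi 78 &&
    pne (mv S.FN (mv S.G0 (mcol B S.bi))) (0, 0)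

/-- A column is one of the first `n`, or zero. -/
def colOr (n : ℕ) (A : ℕ × ℕ) (f : ℕ → Bool) : Bool :=
  allBelow (fun c => cond (Nat.blt c n) (f c) (peq (mcol A c) (0, 0))) 78

/-- Repeated application. -/
def itm (T : ℕ × ℕ) : ℕ → ℕ × ℕ → ℕ × ℕ
  | 0, w => w
  | k + 1, w => mv T (itm T k w)

/-- A table of order dividing `p`, not one. -/
def ordOK (T : ℕ × ℕ) (p : ℕ) : Bool :=
  allBelow (fun c => peq (itm T p (one78 c)) (one78 c)) 78 &&
    !allBelow (fun c => !pne (mcol T c) (one78 c)) 78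

/-- The fixed vectors of a table. -/
def fixOK (T F S R : ℕ × ℕ) : Bool :=
  allBelow (fun c => peq (padd (mv F (mcol S c)) (mv R (padd (mcol T c) (one78 c)))) (one78 c) &&
    peq (mv T (mcol F c)) (mcol F c)) 78

/-- The data for the brackets of fixed vectors. -/
structure BrData where
  p : ℕ
  tw : List (ℕ × ℕ)
  T : ℕ × ℕ
  n : ℕ
  F : ℕ × ℕ
  S : ℕ × ℕ
  R : ℕ × ℕ
  B : ℕ × ℕ
  sel : List (ℕ × ℕ)
  PC : ℕ × ℕ

/-- The check of the data for the brackets of fixed vectors. -/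
def brOK (D : BrData) : Bool :=
  wordOK D.tw D.T && ordOK D.T D.p && fixOK D.T D.F D.S D.R &&
    colOr D.n D.F (fun _ => true) && Nat.ble D.n 78 &&
    allBelow (fun i => allBelow (fun j => cond (Nat.ble i j)
      (peq (mv D.B (mcol D.PC (i * D.n + j))) (brM (mcol D.F i) (mcol D.F j))) true) D.n) D.n &&
    colOr D.sel.length D.B (fun c =>
      let e := D.sel.getD c (0, 0)
      Nat.blt e.1 78 && Nat.blt e.2 78 && peq (mcol D.B c) (brM (mcol D.F e.1) (mcol D.F e.2)))

/-- The data for twisted sums over a cyclic subgroup. -/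
structure PhiData where
  p : ℕ
  a : ℕ
  T : ℕ × ℕ
  orbs : List (ℕ × ℕ)
  UB : ℕ × ℕ
  usel : List (ℕ × ℕ)
  B : ℕ × ℕ
  sel : List (ℕ × ℕ × ℕ)
  TC : ℕ × ℕ
  PC : ℕ × ℕ

/-- An orbit of the data. -/
def PhiData.orb (D : PhiData) (k : ℕ) : ℕ × ℕ := D.orbs.getD k (0, 0)

/-- The twisted sum of two orbits. -/
def PhiData.val (D : PhiData) (k l : ℕ) : ℕ × ℕ :=
  let u := fun i => mcol (D.orb k) (D.a * i % D.p)
  let v := fun i => mcol (D.orb l) i
  (Nat.xor (contr (xsum (fun i => outer (u i).1 (v i).1) D.p))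
      (contr (xsum (fun i => outer (u i).2 (v i).2) D.p)),
    Nat.xor (contr (xsum (fun i => outer (Nat.xor (u i).1 (u i).2) (Nat.xor (v i).1 (v i).2)) D.p))
      (contr (xsum (fun i => outer (u i).1 (v i).1) D.p)))

/-- Every pair of exponents is a shift of the same exponent twice. -/
def shiftOK (p a : ℕ) : Bool :=
  allBelow (fun i => allBelow (fun j =>
    !allBelow (fun n => !(Nat.beq ((((j + p - n) % p) + a * n) % p) i)) p) p) p

/-- The check of the values of the twisted sums. -/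
def phiValOK (D : PhiData) : Bool :=
  allBelow (fun k => allBelow (fun l =>
    peq (mv D.B (mcol D.PC (k * D.orbs.length + l))) (D.val k l)) D.orbs.length) D.orbs.length

/-- The check of the remaining data. -/
def phiOK (D : PhiData) : Bool :=
  Nat.blt 0 D.p && shiftOK D.p D.a &&
    allBelow (fun k => allBelow (fun i =>
      peq (mcol (D.orb k) (i + 1)) (mv D.T (mcol (D.orb k) i))) (D.p - 1)) D.orbs.length &&
    colOr D.usel.length D.UB (fun c =>
      let e := D.usel.getD c (0, 0)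
      Nat.blt e.1 D.orbs.length && Nat.blt e.2 D.p && peq (mcol D.UB c) (mcol (D.orb e.1) e.2)) &&
    mulEq D.T D.B D.B D.TC &&
    colOr D.sel.length D.B (fun c =>
      let e := D.sel.getD c (0, 0, 0)
      Nat.blt e.2.1 D.orbs.length && Nat.blt e.2.2 D.orbs.length &&
        peq (mcol D.B c) (itm D.T e.1 (mv D.B (mcol D.PC (e.2.1 * D.orbs.length + e.2.2)))))

variable {K : Type*} [Field K] [CharP K 2] {τ : K}

/-- The span of the columns. -/
def colSpan (τ : K) (B : ℕ × ℕ) : Submodule K (chevE6.Idx → K) :=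
  LinearMap.range (mM τ B).mulVecLin

theorem col_mem (B : ℕ × ℕ) {c : ℕ} (hc : c < 78) : pv τ (mcol B c) ∈ colSpan τ B := by
  obtain ⟨y, rfl⟩ := exists_code78 hc
  exact ⟨Pi.single y 1, mM_col B y⟩

theorem colSpan_le {B : ℕ × ℕ} {W : Submodule K (chevE6.Idx → K)}
    (h : ∀ c < 78, pv τ (mcol B c) ∈ W) : colSpan τ B ≤ W := by
  rintro _ ⟨v, rfl⟩
  rw [pi_eq_sum_univ' v, map_sum]
  refine sum_mem fun y _ => ?_
  rw [map_smul, mulVecLin_apply, mM_col]
  exact W.smul_mem _ (h _ (code_lt78 y))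

theorem colOr_spec {n : ℕ} {A : ℕ × ℕ} {f : ℕ → Bool} (h : colOr n A f = true) {c : ℕ}
    (hc : c < 78) : (c < n ∧ f c = true) ∨ mcol A c = (0, 0) := by
  simp only [colOr, allBelow_iff] at h
  have h1 := h c hc
  cases hb : Nat.blt c n <;> rw [hb] at h1
  · exact Or.inr (peq_iff.mp h1)
  · exact Or.inl ⟨by simpa using hb, h1⟩

theorem bil_mem (L : (chevE6.Idx → K) →ₗ[K] (chevE6.Idx → K) →ₗ[K] chevE6.Idx → K)
    {A B : ℕ × ℕ} {W : Submodule K (chevE6.Idx → K)}
    (h : ∀ c < 78, ∀ d < 78, L (pv τ (mcol A c)) (pv τ (mcol B d)) ∈ W)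
    {x y : chevE6.Idx → K} (hx : x ∈ colSpan τ A) (hy : y ∈ colSpan τ B) : L x y ∈ W := by
  have h1 : colSpan τ A ≤ W.comap (L.flip y) := colSpan_le fun c hc => by
    have h2 : colSpan τ B ≤ W.comap (L (pv τ (mcol A c))) := colSpan_le fun d hd => h c hc d hd
    exact h2 hy
  exact h1 hx

variable (hτ : τ ^ 2 + τ + 1 = 0)
include hτ

theorem mv_mem (B c : ℕ × ℕ) : pv τ (mv B c) ∈ colSpan τ B := ⟨pv τ c, (pv_mv hτ B c).symm⟩

omit hτ in
theorem bitF_contr_xsum (f : ℕ → ℕ) (n : ℕ) (x : chevE6.Idx) :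
    bitF K ((contr (xsum f n)).testBit (code x)) =
      ∑ i ∈ Finset.range n, bitF K ((contr (f i)).testBit (code x)) := by
  simp only [bitF_contr, bitF_xsum, Finset.sum_mul]
  rw [Finset.sum_comm (s := Finset.range n)]
  exact Finset.sum_congr rfl fun b _ => Finset.sum_comm

omit hτ in
theorem pv_val (D : PhiData) (k l : ℕ) : pv τ (D.val k l) =
    ∑ i ∈ Finset.range D.p,
      pv τ (brM (mcol (D.orb k) (D.a * i % D.p)) (mcol (D.orb l) i)) := by
  funext x
  simp only [pv, Quart.vec, PhiData.val, brM, br1, bitF_nxor, bitF_contr_xsum, Finset.sum_apply,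
    mul_add, Finset.mul_sum, ← Finset.sum_add_distrib]

theorem br_comm (u v : chevE6.Idx → K) : br u v = br v u := by
  funext x
  simp only [br, Matrix.mulVec, dotProduct, Tab.ADR, Matrix.sum_apply, Matrix.smul_apply,
    smul_eq_mul, Finset.sum_mul]
  rw [Finset.sum_comm]
  refine Finset.sum_congr rfl fun b _ => Finset.sum_congr rfl fun c _ => ?_
  rw [show E6Data.tab.adR K c x b = E6Data.tab.adR K b x c from by
    simp only [Tab.adR, Matrix.map_apply]
    rw [good_E6.full.cert.adM_antisymm c b x, Int.cast_neg, CharTwo.neg_eq]]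
  ring

variable [Fintype K] (C : Ctx K 2)

/-- The element of a word. -/
noncomputable def gOf {L : List (ℕ × ℕ)} {M : ℕ × ℕ} (h : wordOK L M = true) : C.Z.G1 :=
  ⟨el good_E6 τ (pairsW L), pairs_mem C hτ (word_letters h)⟩

theorem act_gOf {L : List (ℕ × ℕ)} {M : ℕ × ℕ} (h : wordOK L M = true) (v : chevE6.Idx → K) :
    act C (gOf hτ C h) v = mM τ M *ᵥ v := by
  rw [act, mulVecLin_apply]
  exact congrArg (· *ᵥ v) (word_eq hτ h)

theorem act_pv {L : List (ℕ × ℕ)} {M : ℕ × ℕ} (h : wordOK L M = true) (w : ℕ × ℕ) :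
    act C (gOf hτ C h) (pv τ w) = pv τ (mv M w) := by
  rw [act_gOf, pv_mv hτ]

theorem act_pow {L : List (ℕ × ℕ)} {M : ℕ × ℕ} (h : wordOK L M = true) (w : ℕ × ℕ) :
    ∀ k : ℕ, act C (gOf hτ C h ^ k) (pv τ w) = pv τ (itm M k w)
  | 0 => by rw [pow_zero, act_one]; rfl
  | k + 1 => by rw [pow_succ', act_mul, act_pow h w k, act_pv]; rfl

theorem order_gOf {L : List (ℕ × ℕ)} {M : ℕ × ℕ} (h : wordOK L M = true) {p : ℕ}
    [Fact p.Prime] (ho : ordOK M p = true) : orderOf (gOf hτ C h) = p := by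
  simp only [ordOK, Bool.and_eq_true, allBelow_iff, peq_iff, Bool.not_eq_true', ← Bool.not_eq_true,
    not_forall, not_not] at ho
  obtain ⟨h1, c, hc, h2⟩ := ho
  refine orderOf_eq_prime ?_ ?_
  · refine Subtype.ext (Units.ext (Matrix.ext_of_mulVec_single fun y => ?_))
    have e := act_pow hτ C h (one78 (code y)) p
    rw [h1 _ (code_lt78 y), pv_one] at e
    exact e.trans (one_mulVec _).symm
  · intro e
    obtain ⟨y, rfl⟩ := exists_code78 hc
    have e1 := act_pv hτ C h (one78 (code y))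
    rw [e, act_one, pv_mv hτ, pv_one, mM_col] at e1
    exact pv_ne hτ (by simpa using h2) (e1.symm.trans (pv_one y).symm)

/-- The criterion on data. -/
theorem notMax_data (P : Subgroup C.Z.G1) {B T : ℕ × ℕ} {L : List (ℕ × ℕ)}
    (hL : wordOK L T = true) (ht : gOf hτ C hL ∈ P) (hW : NInv C P (colSpan τ B))
    {S : StabData} (hS : stabOK B T S = true) (hfix : pv τ S.fv ∈ fixP C P) : NotMax C P := by
  simp only [stabOK, Bool.and_eq_true, allBelow_iff, peq_iff, Nat.blt_eq] at hS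
  obtain ⟨⟨⟨⟨⟨⟨hg, hg0⟩, hB⟩, hmove⟩, hFN⟩, hbi⟩, hout⟩ := hS
  refine notMax_of_subspace C P hW (g := gOf hτ C hg) (g0 := gOf hτ C hg0) ?_ hfix ht ?_
    (col_mem B hbi) ?_
  · intro v hv
    obtain ⟨x, rfl⟩ := hv
    rw [act_gOf, mulVecLin_apply, mulVec_mulVec, mulEq_eq hτ hB, ← mulVec_mulVec]
    exact ⟨_, rfl⟩
  · rw [act_pv, act_pv]
    exact pv_ne hτ hmove
  · intro hmem
    have h0 : colSpan τ B ≤ LinearMap.ker (mM τ S.FN).mulVecLin := colSpan_le fun c hc => by
      rw [LinearMap.mem_ker, mulVecLin_apply, ← pv_mv hτ, hFN c hc, pv_zero]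
    have h1 := h0 hmem
    rw [LinearMap.mem_ker, mulVecLin_apply, act_pv, ← pv_mv hτ, ← pv_zero (τ := τ)] at h1
    exact pv_ne hτ hout h1

omit hτ in
theorem fixP_closure {S : Set C.Z.G1} {v : chevE6.Idx → K} (h : ∀ s ∈ S, act C s v = v) :
    v ∈ fixP C (Subgroup.closure S) := fun s hs => by
  induction hs using Subgroup.closure_induction with
  | mem x hx => exact h x hx
  | one => exact act_one C v
  | mul x y _ _ ha hb => rw [act_mul, hb, ha]
  | inv x _ ha =>
    conv_lhs => rw [← ha]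
    rw [← act_mul, inv_mul_cancel, act_one]

omit hτ in
theorem fixP_zpowers {t : C.Z.G1} {v : chevE6.Idx → K} (h : act C t v = v) :
    v ∈ fixP C (Subgroup.zpowers t) := by
  rw [Subgroup.zpowers_eq_closure]
  exact fixP_closure C (by simpa using h)

theorem fix_eq {L : List (ℕ × ℕ)} {T F S R : ℕ × ℕ} (hL : wordOK L T = true)
    (h : fixOK T F S R = true) :
    (∀ v, act C (gOf hτ C hL) v = v → v ∈ colSpan τ F) ∧
      colSpan τ F ≤ fixP C (Subgroup.zpowers (gOf hτ C hL)) := by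
  simp only [fixOK, allBelow_iff, Bool.and_eq_true, peq_iff] at h
  refine ⟨fun v hv => ?_, colSpan_le fun c hc => fixP_zpowers C ?_⟩
  · have e : mM τ F * mM τ S + mM τ R * (mM τ T + 1) = 1 := by
      refine Matrix.ext_of_mulVec_single fun y => ?_
      rw [add_mulVec, ← mulVec_mulVec, ← mulVec_mulVec, add_mulVec, one_mulVec, mM_col, mM_col,
        ← pv_one (τ := τ), ← pv_add, ← pv_mv hτ, ← pv_mv hτ, ← pv_add,
        (h _ (code_lt78 y)).1]
    rw [act_gOf] at hv
    have e1 := congrArg (· *ᵥ v) e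
    have hvv : v + v = 0 := funext fun x => CharTwo.add_self_eq_zero (v x)
    simp only [add_mulVec, ← mulVec_mulVec, one_mulVec, hv, hvv,
      mulVec_zero, add_zero] at e1
    exact ⟨_, e1⟩
  · rw [act_pv, (h c hc).2]

theorem brFix_eq {D : BrData} (hD : brOK D = true) :
    ∃ hL : wordOK D.tw D.T = true,
      brFix C (Subgroup.zpowers (gOf hτ C hL)) = colSpan τ D.B := by
  simp only [brOK, Bool.and_eq_true, allBelow_iff, Nat.ble_eq] at hD
  obtain ⟨⟨⟨⟨⟨⟨hL, -⟩, hfix⟩, hF⟩, hn⟩, hpc⟩, hsel⟩ := hD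
  obtain ⟨hf1, hf2⟩ := fix_eq hτ C hL hfix
  refine ⟨hL, le_antisymm ?_ (colSpan_le fun c hc => ?_)⟩
  · refine Submodule.span_le.mpr ?_
    rintro _ ⟨x, hx, y, hy, rfl⟩
    refine bil_mem brL (fun c hc d hd => ?_)
      (hf1 x (hx _ (Subgroup.mem_zpowers _))) (hf1 y (hy _ (Subgroup.mem_zpowers _)))
    rcases colOr_spec hF hc with ⟨hc', -⟩ | h0
    · rcases colOr_spec hF hd with ⟨hd', -⟩ | h0
      · show br _ _ ∈ _
        rcases Nat.le_total c d with hle | hle
        · have e := hpc c hc' d hd'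
          rw [show Nat.ble c d = true by simpa using hle, cond_true, peq_iff] at e
          rw [← pv_brM hτ, ← e]
          exact mv_mem hτ _ _
        · have e := hpc d hd' c hc'
          rw [show Nat.ble d c = true by simpa using hle, cond_true, peq_iff] at e
          rw [br_comm hτ, ← pv_brM hτ, ← e]
          exact mv_mem hτ _ _
      · rw [h0, pv_zero, map_zero]; exact zero_mem _
    · rw [h0, pv_zero, map_zero, LinearMap.zero_apply]; exact zero_mem _
  · rcases colOr_spec hsel hc with ⟨-, e⟩ | h0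
    · simp only [Bool.and_eq_true, Nat.blt_eq, peq_iff] at e
      obtain ⟨⟨hi, hj⟩, e⟩ := e
      rw [e, pv_brM hτ]
      exact Submodule.subset_span ⟨_, hf2 (col_mem _ hi), _, hf2 (col_mem _ hj), rfl⟩
    · rw [h0, pv_zero]; exact zero_mem _

/-- Non-maximality from the brackets of fixed vectors. -/
theorem notMax_br {D : BrData} {S : StabData} (hp : D.p.Prime) (hD : brOK D = true)
    (hS : stabOK D.B D.T S = true) (hf : peq (mv D.T S.fv) S.fv = true) :
    ∃ hL : wordOK D.tw D.T = true, orderOf (gOf hτ C hL) = D.p ∧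
      NotMax C (Subgroup.zpowers (gOf hτ C hL)) := by
  haveI := Fact.mk hp
  obtain ⟨hL, e⟩ := brFix_eq hτ C hD
  refine ⟨hL, ?_, ?_⟩
  · simp only [brOK, Bool.and_eq_true] at hD
    exact order_gOf hτ C hL hD.1.1.1.1.1.2
  · refine notMax_data hτ C _ hL (Subgroup.mem_zpowers _) (e ▸ brFix_inv C _) hS ?_
    refine fixP_zpowers C ?_
    rw [act_pv, peq_iff.mp hf]

/-- The twisted sums over a cyclic subgroup. -/
theorem phi_zpowers {t : C.Z.G1} {p : ℕ} (ht : orderOf t = p) (a : ℕ) (u v : chevE6.Idx → K) :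
    phi C (Subgroup.zpowers t) a u v =
      ∑ i ∈ Finset.range p, br (act C (t ^ (a * i % p)) u) (act C (t ^ i) v) := by
  classical
  letI := Fintype.ofFinite (Subgroup.zpowers t)
  subst ht
  rw [phi_apply, Finset.sum_range]
  refine (Fintype.sum_equiv (finEquivZPowers (isOfFinOrder_of_finite t)) _ _ fun i => ?_).symm
  rw [finEquivZPowers_apply]
  show br _ _ = br (act C ((t ^ (i : ℕ)) ^ a) u) (act C (t ^ (i : ℕ)) v)
  rw [← pow_mul, pow_mod_orderOf, mul_comm]

theorem phiSpan_eq {D : PhiData} {L : List (ℕ × ℕ)} (hL : wordOK L D.T = true)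
    (ht : orderOf (gOf hτ C hL) = D.p) (hv : phiValOK D = true) (hD : phiOK D = true)
    {U : Submodule K (chevE6.Idx → K)} (hU : NInv C (Subgroup.zpowers (gOf hτ C hL)) U)
    (hgen : ∀ k < D.orbs.length, pv τ (mcol (D.orb k) 0) ∈ U) (hle : U ≤ colSpan τ D.UB) :
    phiSpan C (Subgroup.zpowers (gOf hτ C hL)) D.a U = colSpan τ D.B := by
  set t := gOf hτ C hL
  set P := Subgroup.zpowers t
  simp only [phiOK, Bool.and_eq_true, allBelow_iff, Nat.blt_eq, peq_iff] at hD
  obtain ⟨⟨⟨⟨⟨hp, hsh⟩, horb⟩, husel⟩, hTC⟩, hsel⟩ := hD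
  simp only [phiValOK, allBelow_iff, peq_iff] at hv
  have hcomm : ∀ x ∈ P, ∀ y ∈ P, Commute x y := by
    rintro x ⟨i, rfl⟩ y ⟨j, rfl⟩
    exact Commute.zpow_zpow (Commute.refl t) i j
  have hN : ∀ k : ℕ, t ^ k ∈ Subgroup.normalizer (P : Set C.Z.G1) := fun k =>
    Subgroup.le_normalizer (pow_mem (Subgroup.mem_zpowers t) k)
  have horbit : ∀ k < D.orbs.length, ∀ i < D.p,
      act C (t ^ i) (pv τ (mcol (D.orb k) 0)) = pv τ (mcol (D.orb k) i) := by
    intro k hk i
    induction i with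
    | zero => intro _; rw [pow_zero, act_one]
    | succ i ih =>
      intro hi
      rw [pow_succ', act_mul, ih (by omega), horb k hk i (by omega), act_pv]
  have hmod : ∀ (n : ℕ) (x : chevE6.Idx → K), act C (t ^ n) x = act C (t ^ (n % D.p)) x := by
    intro n x
    rw [← ht, pow_mod_orderOf]
  have hval : ∀ k < D.orbs.length, ∀ l < D.orbs.length,
      phi C P D.a (pv τ (mcol (D.orb k) 0)) (pv τ (mcol (D.orb l) 0)) =
        pv τ (mv D.B (mcol D.PC (k * D.orbs.length + l))) := by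
    intro k hk l hl
    rw [phi_zpowers hτ C ht, hv k hk l hl, pv_val]
    refine Finset.sum_congr rfl fun i hi => ?_
    rw [horbit k hk _ (Nat.mod_lt _ hp), horbit l hl i (Finset.mem_range.mp hi), pv_brM hτ]
  have hTB : ∀ (n : ℕ), ∀ x ∈ colSpan τ D.B, act C (t ^ n) x ∈ colSpan τ D.B := by
    intro n
    induction n with
    | zero => intro x hx; rwa [pow_zero, act_one]
    | succ n ih =>
      intro x hx
      rw [pow_succ', act_mul]
      obtain ⟨y, hy⟩ := ih x hx
      rw [← hy, mulVecLin_apply, act_gOf, mulVec_mulVec, mulEq_eq hτ hTC, ← mulVec_mulVec]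
      exact ⟨_, rfl⟩
  refine le_antisymm ?_ (colSpan_le fun c hc => ?_)
  · refine Submodule.span_le.mpr ?_
    rintro _ ⟨x, hx, y, hy, rfl⟩
    refine bil_mem (phi C P D.a) (fun c hc d hd => ?_) (hle hx) (hle hy)
    rcases colOr_spec husel hc with ⟨-, ec⟩ | h0
    · rcases colOr_spec husel hd with ⟨-, ed⟩ | h0
      · simp only [Bool.and_eq_true, Nat.blt_eq, peq_iff] at ec ed
        obtain ⟨⟨hk, hi⟩, ec⟩ := ec
        obtain ⟨⟨hl, hj⟩, ed⟩ := ed
        rw [ec, ed]
        set k := (D.usel.getD c (0, 0)).1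
        set i := (D.usel.getD c (0, 0)).2
        set l := (D.usel.getD d (0, 0)).1
        set j := (D.usel.getD d (0, 0)).2
        have hs := hsh
        simp only [shiftOK, allBelow_iff, Bool.not_eq_true', ← Bool.not_eq_true, not_forall,
          not_not, Nat.beq_eq] at hs
        obtain ⟨n, hn, hni⟩ := hs i hi j hj
        set m := (j + D.p - n) % D.p
        have hmn : (m + n) % D.p = j := by
          simp only [m, Nat.mod_add_mod, show j + D.p - n + n = j + D.p by omega,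
            Nat.add_mod_right, Nat.mod_eq_of_lt hj]
        rw [← horbit k hk i hi, ← horbit l hl j hj, ← hni, ← hmn, ← hmod, ← hmod, pow_add,
          pow_add, act_mul, act_mul, pow_mul', ← phi_conj C P D.a (hN m),
          phi_shift C P D.a hcomm (pow_mem (Subgroup.mem_zpowers t) n), hval k hk l hl]
        exact hTB m _ (mv_mem hτ _ _)
      · rw [h0, pv_zero, map_zero]; exact zero_mem _
    · rw [h0, pv_zero, map_zero, LinearMap.zero_apply]; exact zero_mem _
  · rcases colOr_spec hsel hc with ⟨-, e⟩ | h0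
    · simp only [Bool.and_eq_true, Nat.blt_eq, peq_iff] at e
      obtain ⟨⟨hk, hl⟩, e⟩ := e
      rw [e, ← act_pow hτ C hL, ← hval _ hk _ hl, phi_conj C P D.a (hN _)]
      exact Submodule.subset_span ⟨_, hU _ (hN _) _ (hgen _ hk), _, hU _ (hN _) _ (hgen _ hl), rfl⟩
    · rw [h0, pv_zero]; exact zero_mem _

/-- The check that the identity lies in the span of the chosen orbit vectors. -/
def topOK (D : PhiData) (UC : ℕ × ℕ) : Bool :=
  allBelow (fun c => peq (mv D.UB (mcol UC c)) (one78 c)) 78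

theorem top_le {D : PhiData} {UC : ℕ × ℕ} (h : topOK D UC = true) :
    (⊤ : Submodule K (chevE6.Idx → K)) ≤ colSpan τ D.UB := fun v _ => by
  simp only [topOK, allBelow_iff, peq_iff] at h
  rw [pi_eq_sum_univ' v]
  refine sum_mem fun y _ => Submodule.smul_mem _ _ ?_
  rw [← pv_one (τ := τ) y, ← h _ (code_lt78 y)]
  exact mv_mem hτ _ _

theorem phiTop_eq {D : PhiData} {UC : ℕ × ℕ} {L : List (ℕ × ℕ)} (hL : wordOK L D.T = true)
    (ht : orderOf (gOf hτ C hL) = D.p) (hv : phiValOK D = true) (hD : phiOK D = true)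
    (hU : topOK D UC = true) :
    phiSpan C (Subgroup.zpowers (gOf hτ C hL)) D.a ⊤ = colSpan τ D.B :=
  phiSpan_eq hτ C hL ht hv hD (fun _ _ _ _ => Submodule.mem_top) (fun _ _ => Submodule.mem_top)
    (top_le hτ hU)

/-- Non-maximality from twisted sums. -/
theorem notMax_phi {D : PhiData} {UC : ℕ × ℕ} {S : StabData} {L : List (ℕ × ℕ)} (hp : D.p.Prime)
    (hL : wordOK L D.T = true) (ho : ordOK D.T D.p = true) (hv : phiValOK D = true)
    (hD : phiOK D = true) (hU : topOK D UC = true) (hS : stabOK D.B D.T S = true)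
    (hf : peq (mv D.T S.fv) S.fv = true) :
    orderOf (gOf hτ C hL) = D.p ∧ NotMax C (Subgroup.zpowers (gOf hτ C hL)) := by
  haveI := Fact.mk hp
  have ht := order_gOf hτ C hL ho
  refine ⟨ht, notMax_data hτ C _ hL (Subgroup.mem_zpowers _) ?_ hS ?_⟩
  · rw [← phiTop_eq hτ C hL ht hv hD hU]
    exact phiSpan_inv C _ _ fun _ _ _ _ => Submodule.mem_top
  · exact fixP_zpowers C (by rw [act_pv, peq_iff.mp hf])

/-- The check of an inner layer of twisted sums. -/
def innerOK (D E : PhiData) (UC KC : ℕ × ℕ) : Bool :=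
  allBelow (fun c => peq (mv E.UB (mcol UC c)) (mcol D.B c)) 78 &&
    allBelow (fun k => peq (mv D.B (mcol KC k)) (mcol (E.orb k) 0)) E.orbs.length

/-- Non-maximality from twisted sums in two layers. -/
theorem notMax_phi_two {D E : PhiData} {UC UC' KC : ℕ × ℕ} {S : StabData} {L : List (ℕ × ℕ)}
    (hp : D.p.Prime) (hTe : E.T = D.T) (hpe : E.p = D.p)
    (hL : wordOK L D.T = true) (ho : ordOK D.T D.p = true) (hv : phiValOK D = true)
    (hD : phiOK D = true) (hU : topOK D UC = true) (hv' : phiValOK E = true)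
    (hE : phiOK E = true) (hin : innerOK D E UC' KC = true) (hS : stabOK E.B D.T S = true)
    (hf : peq (mv D.T S.fv) S.fv = true) :
    orderOf (gOf hτ C hL) = D.p ∧ NotMax C (Subgroup.zpowers (gOf hτ C hL)) := by
  haveI := Fact.mk hp
  have ht := order_gOf hτ C hL ho
  set P := Subgroup.zpowers (gOf hτ C hL)
  simp only [innerOK, Bool.and_eq_true, allBelow_iff, peq_iff] at hin
  have hU1 : NInv C P (colSpan τ D.B) := by
    rw [← phiTop_eq hτ C hL ht hv hD hU]
    exact phiSpan_inv C _ _ fun _ _ _ _ => Submodule.mem_top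
  obtain ⟨Te, hTe'⟩ : ∃ h : wordOK L E.T = true, gOf hτ C h = gOf hτ C hL :=
    ⟨hTe.symm ▸ hL, Subtype.ext rfl⟩
  have hW : phiSpan C P E.a (colSpan τ D.B) = colSpan τ E.B := by
    have h := phiSpan_eq hτ C Te (by rw [hTe', ht, hpe]) hv' hE (U := colSpan τ D.B)
      (by rw [hTe']; exact hU1) (fun k hk => by rw [← hin.2 k hk]; exact mv_mem hτ _ _)
      (colSpan_le fun c hc => by rw [← hin.1 c hc]; exact mv_mem hτ _ _)
    rwa [hTe'] at h
  refine ⟨ht, notMax_data hτ C _ hL (Subgroup.mem_zpowers _) ?_ hS ?_⟩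
  · rw [← hW]; exact phiSpan_inv C _ _ hU1
  · exact fixP_zpowers C (by rw [act_pv, peq_iff.mp hf])

end CfsgLib.Coset.E6TwLocal
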