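import Cfsg.Agent.Coset.E6TwLocal.Cases
import Cfsg.Agent.Coset.E6TwLocal.Cases7

/-!
No normaliser of a nontrivial `p`-subgroup of `²E₆(2)` is maximal when `p > 5`.
-/

set_option autoImplicit false
set_option linter.unusedSectionVars false

namespace CfsgLib.Coset.E6TwLocal

open Cfsg.Lie CfsgLib.Chev CfsgLib.Chev.E6Tw

variable {K : Type*} [Field K] [Fintype K] [CharP K 2] (C : Ctx K 2)

theorem card_G1 : Nat.card C.Z.G1 = 2 ^ 36 * 3 ^ 9 * 5 ^ 2 * 7 ^ 2 * 11 * 13 * 17 * 19 := by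
  have h := C.card_group
  norm_num [-Nat.card_eq_fintype_card] at h ⊢
  omega

theorem notMax_all {p : ℕ} [Fact p.Prime] (h5 : 5 < p) (P : Subgroup C.Z.G1) (hP : IsPGroup p P)
    (hP1 : P ≠ ⊥) : NotMax C P := by
  classical
  obtain ⟨τ, hτ⟩ := E6Five.exists_quart C
  have hp : p.Prime := Fact.out
  obtain ⟨n, hn⟩ := IsPGroup.iff_card.mp hP
  have hn0 : 0 < n := Nat.pos_of_ne_zero fun e => hP1 (Subgroup.eq_bot_of_card_eq P (by rw [hn, e, pow_zero]))
  have hdvd : p ^ n ∣ 2 ^ 36 * 3 ^ 9 * 5 ^ 2 * 7 ^ 2 * 11 * 13 * 17 * 19 := by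
    rw [← card_G1 C, ← hn]; exact Subgroup.card_subgroup_dvd_card P
  have hcases : p = 7 ∨ p = 11 ∨ p = 13 ∨ p = 17 ∨ p = 19 := by
    have h := (dvd_pow_self p hn0.ne').trans hdvd
    have small : ∀ q e : ℕ, q.Prime → q ≤ 19 → p ∣ q ^ e → p = q := fun q e hq _ hd =>
      (Nat.prime_dvd_prime_iff_eq hp hq).mp (hp.dvd_of_dvd_pow hd)
    simp only [hp.dvd_mul] at h
    rcases h with ((((((h | h) | h) | h) | h) | h) | h) | h
    · exact absurd (small 2 36 (by norm_num) (by norm_num) h) (by omega)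
    · exact absurd (small 3 9 (by norm_num) (by norm_num) h) (by omega)
    · exact absurd (small 5 2 (by norm_num) (by norm_num) h) (by omega)
    · exact Or.inl (small 7 2 (by norm_num) (by norm_num) h)
    all_goals
      have := (Nat.prime_dvd_prime_iff_eq hp (by norm_num)).mp h
      omega
  have conj : ∀ (g : C.Z.G1) (Q : Subgroup C.Z.G1), NotMax C Q →
      NotMax C (Q.map (MulAut.conj g).toMonoidHom) := fun g Q h => notMax_map C (MulAut.conj g) h
  -- a Sylow subgroup inside which `P` lies up to conjugation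
  have move : ∀ (Q : Subgroup C.Z.G1) (k : ℕ), Nat.card Q = p ^ k →
      ¬ p ^ (k + 1) ∣ Nat.card C.Z.G1 →
      ∃ g : C.Z.G1, P ≤ Q.map (MulAut.conj g).toMonoidHom := by
    intro Q k hQ hk
    have hQp : IsPGroup p Q := IsPGroup.of_card hQ
    obtain ⟨R, hR⟩ := hQp.exists_le_sylow
    have hRQ : Q = (R : Subgroup C.Z.G1) := by
      obtain ⟨m, hm⟩ := IsPGroup.iff_card.mp R.2
      refine Subgroup.eq_of_le_of_card_ge hR ?_
      rw [hQ, hm]
      refine Nat.pow_le_pow_right hp.pos ?_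
      by_contra hlt
      exact hk ((pow_dvd_pow p (by omega)).trans (hm ▸ Subgroup.card_subgroup_dvd_card _))
    obtain ⟨R', hR'⟩ := hP.exists_le_sylow
    obtain ⟨g, hg⟩ := MulAction.exists_smul_eq C.Z.G1 R R'
    refine ⟨g, ?_⟩
    rw [hRQ]
    rw [← hg] at hR'
    exact hR'
  rw [card_G1 C] at move
  have h7 : p = 7 → NotMax C P := by
    rintro rfl
    obtain ⟨Q, hQ, hQn, hQ7⟩ := exists_seven hτ C
    obtain ⟨g, hg⟩ := move Q 2 (by rw [hQ]; norm_num) (by norm_num)
    have hn2 : n ≤ 2 := by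
      by_contra hlt
      have : 7 ^ 3 ∣ 2 ^ 36 * 3 ^ 9 * 5 ^ 2 * 7 ^ 2 * 11 * 13 * 17 * 19 :=
        (pow_dvd_pow 7 (by omega)).trans hdvd
      norm_num at this
    have hcardQ : Nat.card (Q.map (MulAut.conj g).toMonoidHom) = 49 := by
      rw [Subgroup.card_map_of_injective (MulAut.conj g).injective, hQ]
    obtain rfl | rfl : n = 2 ∨ n = 1 := by omega
    · rw [Subgroup.eq_of_le_of_card_ge hg (by rw [hn, hcardQ]; norm_num)]
      exact conj g Q hQn
    · have hle : P.map (MulAut.conj g).symm.toMonoidHom ≤ Q := by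
        rintro _ ⟨x, hx, rfl⟩
        obtain ⟨y, hy, rfl⟩ := hg hx
        simpa [mul_assoc] using hy
      have e : (P.map (MulAut.conj g).symm.toMonoidHom).map (MulAut.conj g).toMonoidHom = P := by
        rw [Subgroup.map_map]
        convert Subgroup.map_id P
        ext x
        simp
      rw [← e]
      refine conj g _ (hQ7 _ hle ?_)
      rw [Subgroup.card_map_of_injective (MulAut.conj g).symm.injective, hn, pow_one]
  rcases hcases with h | h
  · exact h7 h
  · obtain ⟨t, ht, hnm⟩ := exists_cyclic hτ C h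
    have hn1 : n = 1 := by
      by_contra hne
      have h2 : p ^ 2 ∣ 2 ^ 36 * 3 ^ 9 * 5 ^ 2 * 7 ^ 2 * 11 * 13 * 17 * 19 :=
        (pow_dvd_pow p (by omega)).trans hdvd
      rcases h with rfl | rfl | rfl | rfl <;> norm_num at h2
    obtain ⟨g, hg⟩ := move (Subgroup.zpowers t) 1 (by rw [Nat.card_zpowers, ht, pow_one])
      (by rcases h with rfl | rfl | rfl | rfl <;> norm_num)
    rw [Subgroup.eq_of_le_of_card_ge hg (by
      rw [Subgroup.card_map_of_injective (MulAut.conj g).injective, Nat.card_zpowers, ht, hn, hn1,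
        pow_one])]
    exact conj g _ hnm

end CfsgLib.Coset.E6TwLocal
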