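import Cfsg.Agent.Chev.E6TwFive.Witness
import Cfsg.Agent.Chev.Auto
import Cfsg.Agent.Coset.E6TwLocal.AdData
import Cfsg.Agent.Coset.E6TwLocal.RootData

/-!
Matrices and brackets over the field with four elements as packed bit masks.
-/

set_option autoImplicit false

namespace CfsgLib.Coset.E6TwLocal

open Cfsg.Lie Matrix CfsgLib.Chev CfsgLib.Chev.Tab CfsgLib.Chev.Quart CfsgLib.Chev.E6Five

/-- The leaves of a selection. -/
def sel0 (f : ℕ → ℕ) (b v : ℕ) : ℕ := cond (Nat.beq v 0) 0 (f b)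

/-- A level of a selection. -/
def sel1 (f : ℕ → ℕ) (b v : ℕ) : ℕ :=
  cond (Nat.beq v 0) 0 (Nat.xor (sel0 f b (Nat.mod v 2))
    (sel0 f (Nat.add b 1) (Nat.div v 2)))

/-- A level of a selection. -/
def sel2 (f : ℕ → ℕ) (b v : ℕ) : ℕ :=
  cond (Nat.beq v 0) 0 (Nat.xor (sel1 f b (Nat.mod v 4))
    (sel1 f (Nat.add b 2) (Nat.div v 4)))

/-- A level of a selection. -/
def sel3 (f : ℕ → ℕ) (b v : ℕ) : ℕ :=
  cond (Nat.beq v 0) 0 (Nat.xor (sel2 f b (Nat.mod v 16))
    (sel2 f (Nat.add b 4) (Nat.div v 16)))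

/-- A level of a selection. -/
def sel4 (f : ℕ → ℕ) (b v : ℕ) : ℕ :=
  cond (Nat.beq v 0) 0 (Nat.xor (sel3 f b (Nat.mod v 256))
    (sel3 f (Nat.add b 8) (Nat.div v 256)))

/-- A level of a selection. -/
def sel5 (f : ℕ → ℕ) (b v : ℕ) : ℕ :=
  cond (Nat.beq v 0) 0 (Nat.xor (sel4 f b (Nat.mod v 65536))
    (sel4 f (Nat.add b 16) (Nat.div v 65536)))

/-- A level of a selection. -/
def sel6 (f : ℕ → ℕ) (b v : ℕ) : ℕ :=
  cond (Nat.beq v 0) 0 (Nat.xor (sel5 f b (Nat.mod v 4294967296))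
    (sel5 f (Nat.add b 32) (Nat.div v 4294967296)))

/-- A level of a selection. -/
def sel7 (f : ℕ → ℕ) (b v : ℕ) : ℕ :=
  cond (Nat.beq v 0) 0 (Nat.xor (sel6 f b (Nat.mod v 18446744073709551616))
    (sel6 f (Nat.add b 64) (Nat.div v 18446744073709551616)))

/-- A level of a selection. -/
def sel8 (f : ℕ → ℕ) (b v : ℕ) : ℕ :=
  cond (Nat.beq v 0) 0 (Nat.xor (sel7 f b (Nat.mod v 340282366920938463463374607431768211456))
    (sel7 f (Nat.add b 128) (Nat.div v 340282366920938463463374607431768211456)))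

/-- The sum of the columns selected by a mask. -/
def lin8 (f : ℕ → ℕ) (v : ℕ) : ℕ := sel8 f 0 (Nat.mod v 302231454903657293676544)

theorem sel_eq : ∀ f b v, sel0 f b v = appBin f 0 b v := fun _ _ _ => rfl

theorem sel_eq1 (f : ℕ → ℕ) (b v : ℕ) : sel1 f b v = appBin f 1 b v := by
  rw [sel1, sel_eq, sel_eq, appBin]
  norm_num
  rfl

theorem sel_eq2 (f : ℕ → ℕ) (b v : ℕ) : sel2 f b v = appBin f 2 b v := by
  rw [sel2, sel_eq1, sel_eq1, appBin]
  norm_num
  rfl

theorem sel_eq3 (f : ℕ → ℕ) (b v : ℕ) : sel3 f b v = appBin f 3 b v := by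
  rw [sel3, sel_eq2, sel_eq2, appBin]
  norm_num
  rfl

theorem sel_eq4 (f : ℕ → ℕ) (b v : ℕ) : sel4 f b v = appBin f 4 b v := by
  rw [sel4, sel_eq3, sel_eq3, appBin]
  norm_num
  rfl

theorem sel_eq5 (f : ℕ → ℕ) (b v : ℕ) : sel5 f b v = appBin f 5 b v := by
  rw [sel5, sel_eq4, sel_eq4, appBin]
  norm_num
  rfl

theorem sel_eq6 (f : ℕ → ℕ) (b v : ℕ) : sel6 f b v = appBin f 6 b v := by
  rw [sel6, sel_eq5, sel_eq5, appBin]
  norm_num
  rfl

theorem sel_eq7 (f : ℕ → ℕ) (b v : ℕ) : sel7 f b v = appBin f 7 b v := by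
  rw [sel7, sel_eq6, sel_eq6, appBin]
  norm_num
  rfl

theorem sel_eq8 (f : ℕ → ℕ) (b v : ℕ) : sel8 f b v = appBin f 8 b v := by
  rw [sel8, sel_eq7, sel_eq7, appBin]
  norm_num
  rfl

theorem lin8_eq (f : ℕ → ℕ) (v : ℕ) : lin8 f v = lin chevE6 f v := by
  rw [lin8, sel_eq8, lin, show Tab.dim chevE6 = 78 from rfl]
  rfl

/-- The column `c` of a packed matrix over the prime field. -/
def colF (A c : ℕ) : ℕ := Nat.mod (Nat.shiftRight A (Nat.mul 78 c)) 302231454903657293676544

/-- The column `c` of a packed matrix. -/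
def mcol (M : ℕ × ℕ) (c : ℕ) : ℕ × ℕ := (colF M.1 c, colF M.2 c)

/-- Exclusive or of pairs. -/
def padd (u v : ℕ × ℕ) : ℕ × ℕ := (Nat.xor u.1 v.1, Nat.xor u.2 v.2)

/-- Equality of pairs. -/
def peq (u v : ℕ × ℕ) : Bool := Nat.beq u.1 v.1 && Nat.beq u.2 v.2

/-- A packed matrix applied to a pair. -/
def mv (M : ℕ × ℕ) (w : ℕ × ℕ) : ℕ × ℕ :=
  (Nat.xor (lin8 (colF M.1) w.1) (lin8 (colF M.2) w.2),
    Nat.xor (Nat.xor (lin8 (colF M.2) w.1) (lin8 (colF M.1) w.2)) (lin8 (colF M.2) w.2))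

/-- The column `c` of `ad` of the basis vector `b` modulo two. -/
def adF (b c : ℕ) : ℕ := colF (adTab.getD b 0) c

/-- The outer product of two vectors over the prime field, by blocks of `78` bits. -/
def outer (x y : ℕ) : ℕ :=
  lin8 (fun b => Nat.shiftLeft (Nat.mod y 302231454903657293676544) (Nat.mul 78 b)) x

/-- The parity of the bits below `2 ^ k`. -/
def par : ℕ → ℕ → Bool
  | 0, X => Nat.testBit X 0
  | k + 1, X => par k (Nat.xor (Nat.mod X (2 ^ 2 ^ k)) (Nat.shiftRight X (2 ^ k)))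

/-- The exclusive or of the first values. -/
def xsum (f : ℕ → ℕ) : ℕ → ℕ
  | 0 => 0
  | n + 1 => Nat.xor (xsum f n) (f n)

/-- A tensor of two vectors sent to their bracket. -/
def contr (X : ℕ) : ℕ :=
  xsum (fun t => cond (par 13 (Nat.mod (Nat.land X (mkTab.getD t 0)) (2 ^ 8192))) (2 ^ t) 0) 78

/-- The bracket over the prime field. -/
def br1 (x y : ℕ) : ℕ := contr (outer x y)

/-- The bracket of two pairs. -/
def brM (u v : ℕ × ℕ) : ℕ × ℕ :=
  (Nat.xor (br1 u.1 v.1) (br1 u.2 v.2),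
    Nat.xor (br1 (Nat.xor u.1 u.2) (Nat.xor v.1 v.2)) (br1 u.1 v.1))

/-- A pair is not the other. -/
def pne (u v : ℕ × ℕ) : Bool :=
  !allBelow (fun i => (u.1.testBit i == v.1.testBit i) && (u.2.testBit i == v.2.testBit i)) 78

/-- Two products of packed matrices agree. -/
def mulEq (A B C D : ℕ × ℕ) : Bool :=
  allBelow (fun c => peq (mv A (mcol B c)) (mv C (mcol D c))) 78

/-- The identity matrix. -/
def one78 (c : ℕ) : ℕ × ℕ := (2 ^ c, 0)

/-- A pair times a power of `τ`. -/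
def tmul (k : ℕ) (w : ℕ × ℕ) : ℕ × ℕ :=
  match k with
  | 0 => w
  | 1 => (w.2, Nat.xor w.1 w.2)
  | _ => (Nat.xor w.1 w.2, w.1)

/-- The action of `x_r(τ ^ k)` on a pair, through the tables of the root. -/
def fstep (p : ℕ × ℕ) (w : ℕ × ℕ) : ℕ × ℕ :=
  let e := rootTab p.1
  let a := Nat.land w.1 e.2.2
  let b := Nat.land w.2 e.2.2
  padd (padd w (tmul p.2 (lin8 (colF e.1) a, lin8 (colF e.1) b)))
    (tmul (2 * p.2 % 3) (lin8 (colF e.2.1) a, lin8 (colF e.2.1) b))

/-- A column of a word. -/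
def fcol (L : List (ℕ × ℕ)) (c : ℕ) : ℕ × ℕ := L.foldr fstep (one78 c)

/-- The check of the tables of one root. -/
def rootOK (r : ℕ) : Bool :=
  allBelow (fun c =>
    Nat.beq (colF (rootTab r).1 c) (vecMask (E6Data.tab.colP 1 r c)) &&
      Nat.beq (colF (rootTab r).2.1 c) (vecMask (E6Data.tab.colP 2 r c)) &&
      Nat.beq (vecMask (E6Data.tab.colP 3 r c)) 0 &&
      (Nat.testBit (rootTab r).2.2 c ||
        (Nat.beq (colF (rootTab r).1 c) 0 && Nat.beq (colF (rootTab r).2.1 c) 0))) 78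

/-- The table of a word in root elements of orbits, with legitimate letters. -/
def wordOK (L : List (ℕ × ℕ)) (M : ℕ × ℕ) : Bool :=
  chkWord chevE6 (pairsW L) &&
    (L.all fun p => Nat.blt p.1 72 && (!(Nat.beq (piN p.1) p.1) || Nat.beq p.2 0)) &&
    allBelow (fun c => peq (fcol (pairsW L) c) (mcol M c)) 78

theorem peq_iff {u v : ℕ × ℕ} : peq u v = true ↔ u = v := by
  simp [peq, Prod.ext_iff]

theorem dim_e6 : Tab.dim chevE6 = 78 := by decide +kernel

theorem dim_le : Tab.dim chevE6 ≤ 256 := by rw [dim_e6]; norm_num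

theorem code_lt78 (y : chevE6.Idx) : code y < 78 := dim_e6 ▸ code_lt y

theorem exists_code78 {c : ℕ} (hc : c < 78) : ∃ y : chevE6.Idx, code y = c :=
  exists_code (dim_e6.symm ▸ hc)

/-- The check of the table of the bracket. -/
def chkAd : Bool :=
  allBelow (fun b => allBelow (fun c =>
    Nat.beq (adF b c) (vecMask (E6Data.tab.colAd b c))) 78) 78

theorem chkAd_ok : chkAd = true := by decide +kernel

/-- The check of the table of pairs, one block at a time. -/
def chkMk : Bool :=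
  allBelow (fun b => Nat.beq (xsum (fun t => outer (2 ^ t) (colF (mkTab.getD t 0) b)) 78)
    (xsum (fun c => outer (adF b c) (2 ^ c)) 78)) 78 &&
  allBelow (fun t => Nat.beq (Nat.shiftRight (mkTab.getD t 0) 6084) 0) 78

theorem chkMk_ok : chkMk = true := by decide +kernel

theorem colF_lt (A c : ℕ) : colF A c < 2 ^ 78 := Nat.mod_lt _ (Nat.two_pow_pos 78)

theorem colF_testBit (A c i : ℕ) :
    (colF A c).testBit i = (decide (i < 78) && A.testBit (78 * c + i)) := by
  show ((A >>> (78 * c)) % 2 ^ 78).testBit i = _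
  rw [Nat.testBit_mod_two_pow, Nat.testBit_shiftRight]

theorem roots_ok : allBelow rootOK 72 = true := by decide +kernel

variable {F : Type*} [Field F] [CharP F 2] {τ : F}

/-- The vector of a pair. -/
abbrev pv (τ : F) (w : ℕ × ℕ) : chevE6.Idx → F := Quart.vec chevE6 τ w

/-- The matrix of a packed table. -/
def mM (τ : F) (M : ℕ × ℕ) : Matrix chevE6.Idx chevE6.Idx F :=
  Matrix.of fun x y => pv τ (mcol M (code y)) x

/-- The bracket of the Lie algebra. -/
def br (u v : chevE6.Idx → F) : chevE6.Idx → F := E6Data.tab.ADR u *ᵥ v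

theorem bitF_nxor (a b i : ℕ) :
    bitF F ((Nat.xor a b).testBit i) = bitF F (a.testBit i) + bitF F (b.testBit i) := by
  rw [show (Nat.xor a b).testBit i = Bool.xor (a.testBit i) (b.testBit i) from
    Nat.testBit_xor _ _ _, bitF_xor]

theorem pv_add (u v : ℕ × ℕ) : pv τ (padd u v) = pv τ u + pv τ v := by
  funext x
  simp only [pv, Quart.vec, padd, bitF_nxor, Pi.add_apply]
  ring

theorem pv_zero : pv τ (0, 0) = 0 := by
  funext x
  simp [pv, Quart.vec, bitF]

theorem pv_one (y : chevE6.Idx) : pv τ (one78 (code y)) = Pi.single y 1 := by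
  funext x
  simp only [pv, Quart.vec, one78, Nat.testBit_two_pow, Nat.zero_testBit, bitF, decide_eq_true_eq,
    Bool.false_eq_true, if_false, mul_zero, add_zero, Pi.single_apply]
  exact if_congr ⟨fun e => (code_injective e).symm, fun e => e ▸ rfl⟩ rfl rfl

theorem mM_col (M : ℕ × ℕ) (y : chevE6.Idx) :
    mM τ M *ᵥ Pi.single y 1 = pv τ (mcol M (code y)) := by
  funext x
  simp [mM]

variable (hτ : τ ^ 2 + τ + 1 = 0)
include hτ

theorem pv_mv (M w : ℕ × ℕ) : pv τ (mv M w) = mM τ M *ᵥ pv τ w := by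
  have h2 := tau_sq τ hτ
  funext x
  simp only [Matrix.mulVec, dotProduct, mM, Matrix.of_apply, pv, Quart.vec, mv, mcol, bitF_nxor,
    lin8_eq, bitF_lin dim_le, mul_add, Finset.mul_sum, ← Finset.sum_add_distrib]
  refine Finset.sum_congr rfl fun y _ => ?_
  linear_combination (-(bitF F (w.2.testBit (code y)) *
    bitF F ((colF M.2 (code y)).testBit (code x)))) * h2

omit hτ in
theorem adR_eq (b c x : chevE6.Idx) :
    E6Data.tab.adR F b x c = bitF F ((adF (code b) (code c)).testBit (code x)) := by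
  have h := chkAd_ok
  simp only [chkAd, allBelow_iff, Nat.beq_eq] at h
  rw [h _ (code_lt78 b) _ (code_lt78 c), bitF_vecMask]
  rfl

omit hτ in
theorem bitF_xsum (f : ℕ → ℕ) (i : ℕ) : ∀ n,
    bitF F ((xsum f n).testBit i) = ∑ k ∈ Finset.range n, bitF F ((f k).testBit i)
  | 0 => by simp [xsum, bitF]
  | n + 1 => by rw [xsum, bitF_nxor, bitF_xsum f i n, Finset.sum_range_succ]

omit hτ in
theorem bitF_par : ∀ k X : ℕ, X < 2 ^ 2 ^ k →
    bitF F (par k X) = ∑ i ∈ Finset.range (2 ^ k), bitF F (X.testBit i)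
  | 0, X, _ => by simp [par]
  | k + 1, X, hX => by
    have e : 2 ^ (k + 1) = 2 ^ k + 2 ^ k := by rw [pow_succ]; omega
    have h1 : Nat.mod X (2 ^ 2 ^ k) < 2 ^ 2 ^ k := Nat.mod_lt _ (Nat.two_pow_pos _)
    have h2 : Nat.shiftRight X (2 ^ k) < 2 ^ 2 ^ k := by
      show X >>> (2 ^ k) < _
      rw [Nat.shiftRight_eq_div_pow, Nat.div_lt_iff_lt_mul (Nat.two_pow_pos _), ← pow_add, ← e]
      exact hX
    rw [par, bitF_par k _ (show Nat.xor (Nat.mod X (2 ^ 2 ^ k)) (Nat.shiftRight X (2 ^ k)) < _ from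
      Nat.xor_lt_two_pow h1 h2), e, Finset.sum_range_add,
      ← Finset.sum_add_distrib]
    refine Finset.sum_congr rfl fun i hi => ?_
    rw [bitF_nxor, show Nat.mod X (2 ^ 2 ^ k) = X % 2 ^ 2 ^ k from rfl,
      show Nat.shiftRight X (2 ^ k) = X >>> (2 ^ k) from rfl, Nat.testBit_mod_two_pow,
      Nat.testBit_shiftRight, decide_eq_true (Finset.mem_range.mp hi), Bool.true_and]

omit hτ in
theorem bitF_outer (x y : ℕ) {t c : ℕ} (ht : t < 78) (hc : c < 78) :
    bitF F ((outer x y).testBit (78 * t + c)) = bitF F (x.testBit t) * bitF F (y.testBit c) := by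
  obtain ⟨z, hz⟩ := exists_code78 ht
  rw [outer, lin8_eq, bitF_lin dim_le, Finset.sum_eq_single z]
  · rw [hz, show Nat.shiftLeft (Nat.mod y 302231454903657293676544) (Nat.mul 78 t) =
      (y % 2 ^ 78) <<< (78 * t) from rfl,
      Nat.testBit_shiftLeft, Nat.testBit_mod_two_pow]
    simp [hc]
  · intro w _ hw
    have hne : code w ≠ t := fun e => hw (code_injective (e.trans hz.symm))
    rw [show Nat.shiftLeft (Nat.mod y 302231454903657293676544) (Nat.mul 78 (code w)) =
      (y % 2 ^ 78) <<< (78 * code w) from rfl, Nat.testBit_shiftLeft, Nat.testBit_mod_two_pow]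
    rcases Nat.lt_or_ge t (code w) with h | h
    · rw [decide_eq_false (by omega : ¬ 78 * t + c ≥ 78 * code w)]
      simp [bitF]
    · rw [decide_eq_false (by omega : ¬ 78 * t + c - 78 * code w < 78)]
      simp [bitF]
  · exact fun h => absurd (Finset.mem_univ z) h

omit hτ in
theorem mk_bit {t b c : ℕ} (ht : t < 78) (hb : b < 78) (hc : c < 78) :
    bitF F ((mkTab.getD t 0).testBit (78 * b + c)) = bitF F ((adF b c).testBit t) := by
  have h := chkMk_ok
  simp only [chkMk, Bool.and_eq_true, allBelow_iff, Nat.beq_eq] at h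
  have e := congrArg (fun n => bitF F (Nat.testBit n (78 * t + c))) (h.1 b hb)
  simp only [bitF_xsum] at e
  rw [Finset.sum_eq_single t, bitF_outer _ _ ht hc, colF_testBit, Nat.testBit_two_pow,
    Finset.sum_eq_single c, bitF_outer _ _ ht hc, Nat.testBit_two_pow] at e
  · simpa [hc, bitF] using e
  · intro k hk hne
    rw [bitF_outer _ _ ht hc, Nat.testBit_two_pow]
    simp [bitF, hne]
  · exact fun h => absurd (Finset.mem_range.mpr hc) h
  · intro k hk hne
    rw [bitF_outer _ _ ht hc, Nat.testBit_two_pow]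
    simp [bitF, hne]
  · exact fun h => absurd (Finset.mem_range.mpr ht) h

omit hτ in
theorem sum_range_blocks (f : ℕ → F) : ∀ m : ℕ, ∑ i ∈ Finset.range (78 * m), f i =
    ∑ b ∈ Finset.range m, ∑ c ∈ Finset.range 78, f (78 * b + c)
  | 0 => by simp
  | m + 1 => by
    rw [show 78 * (m + 1) = 78 * m + 78 by omega, Finset.sum_range_add, sum_range_blocks f m,
      Finset.sum_range_succ (fun b => ∑ c ∈ Finset.range 78, f (78 * b + c))]

omit hτ in
theorem bitF_contr (X : ℕ) (x : chevE6.Idx) :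
    bitF F ((contr X).testBit (code x)) = ∑ b : chevE6.Idx, ∑ c : chevE6.Idx,
      bitF F (X.testBit (78 * code b + code c)) * E6Data.tab.adR F b x c := by
  have hx := code_lt78 x
  have hh := chkMk_ok
  simp only [chkMk, Bool.and_eq_true, allBelow_iff, Nat.beq_eq] at hh
  have hz : ∀ i, 6084 ≤ i → (mkTab.getD (code x) 0).testBit i = false := fun i hi => by
    have e := congrArg (fun n => Nat.testBit n (i - 6084)) (hh.2 _ hx)
    simp only [show ∀ a n, Nat.shiftRight a n = a >>> n from fun _ _ => rfl,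
      Nat.testBit_shiftRight, Nat.zero_testBit] at e
    rwa [Nat.add_sub_cancel' hi] at e
  rw [contr, bitF_xsum, Finset.sum_eq_single (code x)]
  · have hb : ∀ q : Bool, bitF F ((cond q (2 ^ code x) 0).testBit (code x)) = bitF F q := fun q => by
      cases q <;> simp [bitF]
    have hlt : Nat.mod (Nat.land X (mkTab.getD (code x) 0)) (2 ^ 8192) < 2 ^ 2 ^ 13 :=
      lt_of_lt_of_le (Nat.mod_lt _ (Nat.two_pow_pos _))
        (Nat.pow_le_pow_right (by norm_num) (by norm_num))
    rw [hb, bitF_par 13 _ hlt,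
      ← Finset.sum_subset (Finset.range_subset_range.mpr (show 78 * 78 ≤ 2 ^ 13 by norm_num))]
    · rw [sum_range_blocks, ← dim_e6, ← sum_code (D := chevE6)]
      refine Finset.sum_congr rfl fun b _ => ?_
      rw [← sum_code (D := chevE6)]
      refine Finset.sum_congr rfl fun c _ => ?_
      have hb' := code_lt78 b
      have hc' := code_lt78 c
      rw [dim_e6, adR_eq, ← mk_bit hx hb' hc', ← bitF_and]
      show bitF F ((Nat.land X _ % 2 ^ 8192).testBit _) = _
      rw [Nat.testBit_mod_two_pow, decide_eq_true (by omega : 78 * code b + code c < 8192),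
        Bool.true_and, show Nat.land X (mkTab.getD (code x) 0) = X &&& mkTab.getD (code x) 0 from rfl,
        Nat.testBit_land]
    · intro i _ hi
      rw [Finset.mem_range] at hi
      show bitF F ((Nat.land X _ % 2 ^ 8192).testBit i) = 0
      rw [Nat.testBit_mod_two_pow, show Nat.land X (mkTab.getD (code x) 0) =
        X &&& mkTab.getD (code x) 0 from rfl, Nat.testBit_land, hz i (by omega)]
      simp [bitF]
  · intro k _ hne
    cases par 13 (Nat.mod (Nat.land X (mkTab.getD k 0)) (2 ^ 8192)) <;>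
      simp [bitF, Nat.testBit_two_pow, hne]
  · exact fun h => absurd (Finset.mem_range.mpr hx) h

omit hτ in
theorem bitF_br1 (u v : ℕ) (x : chevE6.Idx) :
    bitF F ((br1 u v).testBit (code x)) =
      ∑ b : chevE6.Idx, ∑ c : chevE6.Idx, bitF F (u.testBit (code b)) *
        bitF F (v.testBit (code c)) * E6Data.tab.adR F b x c := by
  rw [br1, bitF_contr]
  refine Finset.sum_congr rfl fun b _ => Finset.sum_congr rfl fun c _ => ?_
  rw [bitF_outer _ _ (code_lt78 b) (code_lt78 c)]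

theorem pv_brM (u v : ℕ × ℕ) : pv τ (brM u v) = br (pv τ u) (pv τ v) := by
  have h2 := tau_sq τ hτ
  have hz : (2 : F) = 0 := CharTwo.two_eq_zero
  funext x
  have e : br (pv τ u) (pv τ v) x =
      ∑ b : chevE6.Idx, ∑ c : chevE6.Idx, pv τ u b * pv τ v c * E6Data.tab.adR F b x c := by
    simp only [br, Matrix.mulVec, dotProduct, Tab.ADR, Matrix.sum_apply, Matrix.smul_apply,
      smul_eq_mul, Finset.sum_mul]
    rw [Finset.sum_comm]
    exact Finset.sum_congr rfl fun b _ => Finset.sum_congr rfl fun c _ => by ring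
  rw [e]
  simp only [pv, Quart.vec, brM, bitF_nxor, bitF_br1, Finset.mul_sum, ← Finset.sum_add_distrib]
  refine Finset.sum_congr rfl fun b _ => Finset.sum_congr rfl fun c _ => ?_
  set a1 := bitF F (u.1.testBit (code b))
  set a2 := bitF F (u.2.testBit (code b))
  set c1 := bitF F (v.1.testBit (code c))
  set c2 := bitF F (v.2.testBit (code c))
  linear_combination (-(a2 * c2 * E6Data.tab.adR F b x c)) * h2 +
    τ * a1 * c1 * E6Data.tab.adR F b x c * hz

theorem pv_ne {u v : ℕ × ℕ} (h : pne u v = true) : pv τ u ≠ pv τ v := by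
  intro e
  simp only [pne, Bool.not_eq_true', ← Bool.not_eq_true, allBelow_iff, not_forall,
    Bool.and_eq_true, beq_iff_eq] at h
  obtain ⟨i, hi, hne⟩ := h
  obtain ⟨x, rfl⟩ := exists_code78 hi
  exact hne (pair_inj τ hτ (congrFun e x))

theorem mulEq_eq {A B C D : ℕ × ℕ} (h : mulEq A B C D = true) :
    mM τ A * mM τ B = mM τ C * mM τ D := by
  simp only [mulEq, allBelow_iff, peq_iff] at h
  refine Matrix.ext_of_mulVec_single fun y => ?_
  rw [← mulVec_mulVec, ← mulVec_mulVec, mM_col, mM_col, ← pv_mv hτ, ← pv_mv hτ,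
    h _ (code_lt78 y)]

theorem pv_tmul {k : ℕ} (hk : k < 3) (w : ℕ × ℕ) : pv τ (tmul k w) = τ ^ k • pv τ w := by
  have h2 := tau_sq τ hτ
  funext x
  interval_cases k <;>
    simp only [pv, Quart.vec, tmul, bitF_nxor, Pi.smul_apply, smul_eq_mul, pow_zero, pow_one, one_mul]
  · linear_combination (-(bitF F (w.2.testBit (code x)))) * h2
  · linear_combination (-(bitF F (w.1.testBit (code x)) +
      bitF F (w.2.testBit (code x)) * (τ + 1))) * h2 -
      bitF F (w.2.testBit (code x)) * τ * (CharTwo.two_eq_zero : (2 : F) = 0)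

theorem pv_fstep {p : ℕ × ℕ} (hp : p.1 < 72) (hk : p.2 < 3) (w : ℕ × ℕ) :
    pv τ (fstep p w) =
      ((good_E6.full.x p.1 (τ ^ p.2) : GL chevE6.Idx F) : Matrix chevE6.Idx chevE6.Idx F) *ᵥ
        pv τ w := by
  obtain ⟨r, k⟩ := p
  have hr := roots_ok
  simp only [allBelow_iff] at hr
  have hr := hr r hp
  simp only [rootOK, allBelow_iff, Bool.and_eq_true, Nat.beq_eq, Bool.or_eq_true] at hr
  have part : ∀ (A : ℕ) (P : Matrix chevE6.Idx chevE6.Idx F),
      (∀ x y : chevE6.Idx, P x y = bitF F ((colF A (code y)).testBit (code x))) →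
      (∀ y : chevE6.Idx, (rootTab r).2.2.testBit (code y) = true ∨ colF A (code y) = 0) →
      pv τ (lin chevE6 (colF A) (Nat.land w.1 (rootTab r).2.2),
        lin chevE6 (colF A) (Nat.land w.2 (rootTab r).2.2)) = P *ᵥ pv τ w := by
    intro A P hP hS
    funext x
    simp only [pv, Quart.vec, Matrix.mulVec, dotProduct, bitF_lin dim_le, Finset.mul_sum,
      ← Finset.sum_add_distrib, hP]
    refine Finset.sum_congr rfl fun y _ => ?_
    simp only [show ∀ a b : ℕ, Nat.land a b = a &&& b from fun _ _ => rfl, Nat.testBit_land,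
      bitF_and]
    rcases hS y with h | h
    · rw [h, show bitF F true = 1 from rfl]; ring
    · rw [h, Nat.zero_testBit, show bitF F false = 0 from rfl]; ring
  have hP : ∀ m, m = 1 ∨ m = 2 ∨ m = 3 → ∀ x y : chevE6.Idx, (E6Data.tab.P m r x y : F) =
      bitF F ((vecMask (E6Data.tab.colP m r (code y))).testBit (code x)) := fun m hm x y => by
    rw [bitF_vecMask, E6Data.tab.colP_eq m r (by omega)]
  have hX : E6Data.tab.X F r (τ ^ k) = 1 + τ ^ k • (E6Data.tab.P 1 r).map (Int.cast : ℤ → F) +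
      (τ ^ k) ^ 2 • (E6Data.tab.P 2 r).map (Int.cast : ℤ → F) := by
    have h3 : (E6Data.tab.P 3 r).map (Int.cast : ℤ → F) = 0 := Matrix.ext fun x y => by
      rw [Matrix.map_apply, hP 3 (by omega), (hr _ (code_lt78 y)).1.2]
      simp [bitF]
    simp only [Tab.X, Finset.sum_range_succ, Finset.sum_range_zero, zero_add, h3, smul_zero,
      add_zero, pow_zero, one_smul, pow_one, Tab.P_zero]
    rw [Matrix.map_one _ Int.cast_zero Int.cast_one]
  have hk2 : τ ^ (2 * k % 3) = (τ ^ k) ^ 2 := by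
    rw [← pow_mul, mul_comm k 2]
    exact (pow_eq_pow_mod _ (by linear_combination (τ - 1) * hτ)).symm
  rw [good_E6.full.coe_x hp, hX, add_mulVec, add_mulVec, one_mulVec, smul_mulVec, smul_mulVec]
  simp only [fstep, lin8_eq]
  rw [pv_add, pv_add, pv_tmul hτ hk, pv_tmul hτ (Nat.mod_lt _ (by norm_num)), hk2,
    part (rootTab r).1 ((E6Data.tab.P 1 r).map (Int.cast : ℤ → F))
      (fun x y => by rw [Matrix.map_apply, hP 1 (by omega), (hr _ (code_lt78 y)).1.1.1])
      (fun y => (hr _ (code_lt78 y)).2.imp_right And.left),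
    part (rootTab r).2.1 ((E6Data.tab.P 2 r).map (Int.cast : ℤ → F))
      (fun x y => by rw [Matrix.map_apply, hP 2 (by omega), (hr _ (code_lt78 y)).1.1.2])
      (fun y => (hr _ (code_lt78 y)).2.imp_right And.right)]

theorem pv_fcol {L : List (ℕ × ℕ)} (hL : ∀ p ∈ L, p.1 < 72 ∧ p.2 < 3) (y : chevE6.Idx) :
    pv τ (fcol L (code y)) =
      ((el good_E6 τ L : GL chevE6.Idx F) : Matrix chevE6.Idx chevE6.Idx F) *ᵥ Pi.single y 1 := by
  induction L with
  | nil =>
    rw [el_nil good_E6 τ, Units.val_one, one_mulVec]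
    exact pv_one y
  | cons p L ih =>
    obtain ⟨hp, hk⟩ := hL p List.mem_cons_self
    rw [show fcol (p :: L) (code y) = fstep p (fcol L (code y)) from rfl, pv_fstep hτ hp hk,
      ih fun q hq => hL q (List.mem_cons_of_mem _ hq), el_cons good_E6 τ, Units.val_mul,
      mulVec_mulVec]

theorem word_eq {L : List (ℕ × ℕ)} {M : ℕ × ℕ} (h : wordOK L M = true) :
    ((el good_E6 τ (pairsW L) : GL chevE6.Idx F) : Matrix chevE6.Idx chevE6.Idx F) = mM τ M := by
  simp only [wordOK, Bool.and_eq_true, allBelow_iff, peq_iff] at h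
  have hw := h.1.1
  simp only [chkWord, Bool.and_eq_true, List.all_eq_true, Nat.blt_eq] at hw
  refine Matrix.ext_of_mulVec_single fun y => ?_
  rw [mM_col, ← pv_fcol hτ (L := pairsW L) (fun p hp => hw.2 p hp) y, h.2 _ (code_lt78 y)]

omit hτ in
theorem word_letters {L : List (ℕ × ℕ)} {M : ℕ × ℕ} (h : wordOK L M = true) :
    ∀ p ∈ L, p.1 < 72 ∧ (piN p.1 = p.1 → p.2 = 0) := by
  simp only [wordOK, Bool.and_eq_true, List.all_eq_true, Nat.blt_eq, Bool.or_eq_true,
    Bool.not_eq_true'] at h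
  intro p hp
  obtain ⟨h1, h2⟩ := h.1.2 p hp
  refine ⟨h1, fun e => ?_⟩
  rcases h2 with h2 | h2
  · rw [← Bool.not_eq_true, Nat.beq_eq] at h2
    exact absurd e h2
  · exact Nat.eq_of_beq_eq_true h2

end CfsgLib.Coset.E6TwLocal
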