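import Cfsg.Agent.Coset.E6TwLocal.Engine

/-!
An elementary abelian subgroup of order `49` and its eight subgroups of order `7`.
-/

set_option autoImplicit false
set_option linter.unusedSectionVars false

namespace CfsgLib.Coset.E6TwLocal

open Cfsg.Lie Matrix CfsgLib.Chev CfsgLib.Chev.Tab CfsgLib.Chev.Quart CfsgLib.Chev.E6Five
  CfsgLib.Chev.E6Tw
open scoped MatrixGroups

/-- The trace of a power of a table. -/
def trM (T : ℕ × ℕ) (k : ℕ) : Bool × Bool :=
  (bsum (fun c => (itm T k (one78 c)).1.testBit c) 78,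
    bsum (fun c => (itm T k (one78 c)).2.testBit c) 78)

/-- The trace of a power is one. -/
def trOne (T : ℕ × ℕ) (k : ℕ) : Bool := (trM T k).1 && !(trM T k).2

/-- The empty data. -/
def noBr : BrData := ⟨0, [], (0, 0), 0, (0, 0), (0, 0), (0, 0), (0, 0), [], (0, 0)⟩

/-- The data of the subgroup of order `49`. -/
structure SevenData where
  D : List BrData
  B : ℕ × ℕ
  sel : List (ℕ × ℕ × ℕ)
  EC : List (ℕ × ℕ)
  fv : ℕ × ℕ

/-- One of the subgroups of order seven. -/
def SevenData.sub (S : SevenData) (j : ℕ) : BrData := S.D.getD j noBr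

/-- The first generator. -/
def SevenData.TA (S : SevenData) : ℕ × ℕ := (S.sub 0).T

/-- The second generator. -/
def SevenData.TB (S : SevenData) : ℕ × ℕ := (S.sub 1).T

/-- The relations between the generators and the words of the eight subgroups. -/
def sevenRelOK (S : SevenData) : Bool :=
  allBelow (fun j => Nat.beq (S.sub j).p 7 && wordOK (S.sub j).tw (S.sub j).T) 8 &&
    mulEq S.TA S.TB S.TB S.TA && ordOK S.TA 7 && ordOK S.TB 7 &&
    allBelow (fun i => allBelow (fun c =>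
      peq (mcol (S.sub (i + 1)).T c) (itm S.TA i (mv S.TB (one78 c)))) 78) 7 &&
    peq (mv S.TA S.fv) S.fv && pne (mv S.TB S.fv) S.fv &&
    allBelow (fun i => allBelow (fun l => Nat.beq l 0 ||
      !allBelow (fun r => !(Nat.beq (r * l % 7) i)) 7) 7) 7

/-- The checks behind the subspace of the subgroup of order `49`. -/
def sevenTrOK (S : SevenData) : Bool :=
  allBelow (fun j => !(trOne (S.sub j).T 0) &&
    (allBelow (fun c => peq (mv S.B (mcol (S.EC.getD j (0, 0)) c)) (mcol (S.sub j).B c)) 78 ||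
      allBelow (fun k => !(trOne (S.sub j).T k)) 7)) 8 &&
    allBelow (fun j => fixOK (S.sub j).T (S.sub j).F (S.sub j).S (S.sub j).R ||
      !(trOne (S.sub j).T 1)) 8 &&
    colOr S.sel.length S.B (fun c =>
      let e := S.sel.getD c (0, 0, 0)
      Nat.blt e.1 8 && Nat.blt e.2.1 78 && Nat.blt e.2.2 78 && trOne (S.sub e.1).T 1 &&
        peq (mcol S.B c) (brM (mcol (S.sub e.1).F e.2.1) (mcol (S.sub e.1).F e.2.2)))

variable {K : Type*} [Field K] [CharP K 2] {τ : K} (hτ : τ ^ 2 + τ + 1 = 0)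
include hτ

theorem trace_itm {M : Matrix chevE6.Idx chevE6.Idx K} {T : ℕ × ℕ} {k : ℕ}
    (h : ∀ y : chevE6.Idx, M *ᵥ Pi.single y 1 = pv τ (itm T k (one78 (code y)))) :
    (M.trace = 1 ↔ trOne T k = true) := by
  have e : M.trace = bitF K (trM T k).1 + τ * bitF K (trM T k).2 := by
    simp only [Matrix.trace, Matrix.diag, trM, bitF_bsum, Finset.mul_sum,
      ← Finset.sum_add_distrib]
    rw [← dim_e6, ← sum_code (D := chevE6)]
    refine Finset.sum_congr rfl fun y _ => ?_
    have := congrFun (h y) y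
    rw [mulVec_single_one] at this
    exact this
  constructor
  · intro h1
    have h2 : bitF K (trM T k).1 + τ * bitF K (trM T k).2 = bitF K true + τ * bitF K false := by
      rw [← e, h1]; simp [bitF]
    obtain ⟨a, b⟩ := pair_inj τ hτ h2
    simp [trOne, a, b]
  · intro h1
    simp only [trOne, Bool.and_eq_true, Bool.not_eq_true'] at h1
    rw [e, h1.1, h1.2]
    simp [bitF]

variable [Fintype K] (C : Ctx K 2)

/-- The main facts on the subgroup of order `49`. -/
theorem seven {S : SevenData} (hR : sevenRelOK S = true) :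
    ∃ (a b : C.Z.G1) (u : ℕ → C.Z.G1),
      (∀ j < 8, ∃ hL : wordOK (S.sub j).tw (S.sub j).T = true, u j = gOf hτ C hL) ∧
      u 0 = a ∧ u 1 = b ∧ orderOf a = 7 ∧ orderOf b = 7 ∧
      (∀ j < 8, u j ∈ Subgroup.closure {a, b} ∧ u j ^ 7 = 1) ∧
      (∀ s ∈ Subgroup.closure {a, b}, ∃ j < 8, ∃ k < 7, s = u j ^ k) ∧
      Nat.card (Subgroup.closure ({a, b} : Set C.Z.G1)) = 49 := by
  classical
  haveI : Fact (Nat.Prime 7) := ⟨by norm_num⟩
  simp only [sevenRelOK, Bool.and_eq_true, allBelow_iff, Bool.or_eq_true, Bool.not_eq_true',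
    ← Bool.not_eq_true, not_forall, not_not, Nat.beq_eq, peq_iff] at hR
  obtain ⟨⟨⟨⟨⟨⟨⟨hw, hcom⟩, hoA⟩, hoB⟩, hu⟩, hfa⟩, hfb⟩, hdiv⟩ := hR
  set a := gOf hτ C (hw 0 (by norm_num)).2 with ha
  set b := gOf hτ C (hw 1 (by norm_num)).2 with hb
  let u : ℕ → C.Z.G1 := fun j =>
    if h : j < 8 then gOf hτ C (hw j h).2 else 1
  have ext_act : ∀ g h : C.Z.G1,
      (∀ y : chevE6.Idx, act C g (Pi.single y 1) = act C h (Pi.single y 1)) → g = h :=
    fun g h e => Subtype.ext (Units.ext (Matrix.ext_of_mulVec_single e))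
  have hab : Commute a b := by
    refine ext_act _ _ fun y => ?_
    have e := congrArg (· *ᵥ Pi.single y (1 : K)) (mulEq_eq hτ hcom)
    simp only [← mulVec_mulVec] at e
    rw [act_mul, act_mul, act_gOf, act_gOf, act_gOf, act_gOf]
    exact e
  have hu' : ∀ i < 7, u (i + 1) = a ^ i * b := by
    intro i hi
    refine ext_act _ _ fun y => ?_
    simp only [u, dif_pos (show i + 1 < 8 by omega)]
    have e := hu i hi _ (code_lt78 y)
    simp only [SevenData.TA, SevenData.TB] at e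
    rw [act_mul, ← pv_one (τ := τ), act_pv, act_pv, act_pow, ← e, pv_mv hτ, pv_one, mM_col]
  have hoa : orderOf a = 7 := order_gOf hτ C _ hoA
  have hob : orderOf b = 7 := order_gOf hτ C _ hoB
  have hu0 : u 0 = a := dif_pos (by norm_num)
  set P := Subgroup.closure ({a, b} : Set C.Z.G1)
  have haP : a ∈ P := Subgroup.subset_closure (by simp)
  have hbP : b ∈ P := Subgroup.subset_closure (by simp)
  have ha7 : a ^ 7 = 1 := by rw [← hoa, pow_orderOf_eq_one]
  have hb7 : b ^ 7 = 1 := by rw [← hob, pow_orderOf_eq_one]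
  have hmem : ∀ j < 8, u j ∈ P ∧ u j ^ 7 = 1 := by
    intro j hj
    rcases Nat.eq_zero_or_pos j with rfl | hj0
    · rw [hu0]; exact ⟨haP, ha7⟩
    · obtain ⟨i, rfl⟩ : ∃ i, j = i + 1 := ⟨j - 1, by omega⟩
      rw [hu' i (by omega)]
      exact ⟨mul_mem (pow_mem haP _) hbP, by
        rw [(hab.pow_left i).mul_pow, ← pow_mul, mul_comm, pow_mul, ha7, one_pow, hb7, one_mul]⟩
  have hmul : ∀ i l i' l' : ℕ,
      a ^ i * b ^ l * (a ^ i' * b ^ l') = a ^ (i + i') * b ^ (l + l') := fun i l i' l' => by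
    rw [pow_add, pow_add, mul_assoc, ← mul_assoc (b ^ l), ← (hab.pow_pow i' l).eq, mul_assoc,
      mul_assoc]
  have hform : ∀ s ∈ P, ∃ i < 7, ∃ l < 7, s = a ^ i * b ^ l := by
    intro s hs
    induction hs using Subgroup.closure_induction with
    | mem x hx =>
      rcases hx with hx | hx
      · exact ⟨1, by norm_num, 0, by norm_num, by simp [hx]⟩
      · exact ⟨0, by norm_num, 1, by norm_num, by
          simp [Set.mem_singleton_iff.mp hx]⟩
    | one => exact ⟨0, by norm_num, 0, by norm_num, by simp⟩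
    | mul x y _ _ hx hy =>
      obtain ⟨i, -, l, -, rfl⟩ := hx
      obtain ⟨i', -, l', -, rfl⟩ := hy
      refine ⟨(i + i') % 7, Nat.mod_lt _ (by norm_num), (l + l') % 7, Nat.mod_lt _ (by norm_num), ?_⟩
      rw [← pow_eq_pow_mod _ ha7, ← pow_eq_pow_mod _ hb7, hmul]
    | inv x _ hx =>
      obtain ⟨i, hi, l, hl, rfl⟩ := hx
      refine ⟨(7 - i) % 7, Nat.mod_lt _ (by norm_num), (7 - l) % 7, Nat.mod_lt _ (by norm_num), ?_⟩
      rw [← pow_eq_pow_mod _ ha7, ← pow_eq_pow_mod _ hb7]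
      refine inv_eq_of_mul_eq_one_right ?_
      rw [hmul, show i + (7 - i) = 7 by omega, show l + (7 - l) = 7 by omega, ha7, hb7, one_mul]
  refine ⟨a, b, u, fun j hj => ⟨_, dif_pos hj⟩, hu0, dif_pos (by norm_num), hoa, hob, hmem,
    fun s hs => ?_, ?_⟩
  · obtain ⟨i, hi, l, hl, rfl⟩ := hform s hs
    rcases Nat.eq_zero_or_pos l with rfl | hl0
    · exact ⟨0, by norm_num, i, hi, by rw [hu0, pow_zero, mul_one]⟩
    · obtain ⟨r, hr, e⟩ := (hdiv i hi l hl).resolve_left hl0.ne'
      refine ⟨r + 1, by omega, l, hl, ?_⟩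
      rw [hu' r hr, (hab.pow_left r).mul_pow, ← pow_mul, pow_eq_pow_mod (r * l) ha7, e]
  · have hle : Nat.card P ≤ 49 := by
      refine le_trans (Nat.card_le_card_of_surjective
        (fun x : Fin 7 × Fin 7 => (⟨a ^ (x.1 : ℕ) * b ^ (x.2 : ℕ),
          mul_mem (pow_mem haP _) (pow_mem hbP _)⟩ : P)) fun s => ?_) (by simp)
      obtain ⟨i, hi, l, hl, e⟩ := hform _ s.2
      exact ⟨(⟨i, hi⟩, ⟨l, hl⟩), Subtype.ext e.symm⟩
    have hpg : IsPGroup 7 P := fun s => ⟨1, Subtype.ext (by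
      obtain ⟨i, -, l, -, e⟩ := hform _ s.2
      show (s : C.Z.G1) ^ (7 ^ 1) = 1
      rw [e, pow_one, (hab.pow_pow i l).mul_pow, ← pow_mul, ← pow_mul, mul_comm i, mul_comm l,
        pow_mul, pow_mul, ha7, hb7, one_pow, one_pow, one_mul])⟩
    obtain ⟨n, hn⟩ := IsPGroup.iff_card.mp hpg
    have hlt : Subgroup.zpowers a < P := by
      refine lt_of_le_of_ne (Subgroup.zpowers_le.mpr haP) fun e => ?_
      have hb' : b ∈ Subgroup.zpowers a := e ▸ hbP
      have hf := fixP_zpowers C (t := a) (v := pv τ S.fv) (show act C a (pv τ S.fv) = _ by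
        rw [act_pv]; exact congrArg (pv τ) hfa) b hb'
      rw [act_pv] at hf
      exact pv_ne hτ hfb hf
    have h7 : 7 < Nat.card P := by
      rw [← hoa, ← Nat.card_zpowers]
      exact Set.Finite.card_lt_card (Set.toFinite _) hlt
    rw [hn] at h7 hle ⊢
    obtain hn2 | hn2 | hn2 : n ≤ 1 ∨ n = 2 ∨ 3 ≤ n := by omega
    · exact absurd h7 (not_lt.mpr ((Nat.pow_le_pow_right (by norm_num) hn2).trans (pow_one 7).le))
    · rw [hn2]; norm_num
    · exact absurd hle (not_le.mpr (lt_of_lt_of_le (by norm_num : 49 < 7 ^ 3)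
        (Nat.pow_le_pow_right (by norm_num) hn2)))

/-- The subgroup of order `49` has a non-maximal normaliser. -/
theorem notMax_seven {S : SevenData} {X : StabData} {a b : C.Z.G1} {u : ℕ → C.Z.G1}
    (hu : ∀ j < 8, ∃ hL : wordOK (S.sub j).tw (S.sub j).T = true, u j = gOf hτ C hL)
    (hu0 : u 0 = a) (hu1 : u 1 = b)
    (hmem : ∀ j < 8, u j ∈ Subgroup.closure {a, b} ∧ u j ^ 7 = 1)
    (hall : ∀ s ∈ Subgroup.closure {a, b}, ∃ j < 8, ∃ k < 7, s = u j ^ k)
    (hbr : ∀ j < 8, brOK (S.sub j) = true) (hT : sevenTrOK S = true) {i : ℕ} (hi : i < 2)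
    (hS : stabOK S.B (S.sub i).T X = true) (hfa : peq (mv S.TA X.fv) X.fv = true)
    (hfb : peq (mv S.TB X.fv) X.fv = true) :
    NotMax C (Subgroup.closure {a, b}) := by
  classical
  set P := Subgroup.closure ({a, b} : Set C.Z.G1)
  simp only [sevenTrOK, Bool.and_eq_true, allBelow_iff, Bool.or_eq_true, Bool.not_eq_true',
    peq_iff] at hT
  obtain ⟨⟨htr, hfixes⟩, hsel⟩ := hT
  have htrace : ∀ j < 8, ∀ k : ℕ,
      (Matrix.trace ((u j ^ k : C.Z.G1) : GL chevE6.Idx K).val = 1 ↔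
        trOne (S.sub j).T k = true) := by
    intro j hj k
    obtain ⟨hL, e⟩ := hu j hj
    refine trace_itm hτ fun y => ?_
    rw [← pv_one (τ := τ), ← act_pow hτ C hL, e]
    rfl
  have hW : brTr C P = colSpan τ S.B := by
    refine le_antisymm (Submodule.span_le.mpr ?_) (colSpan_le fun c hc => ?_)
    · rintro _ ⟨s, hs, h1, x, hx, y, hy, rfl⟩
      obtain ⟨j, hj, k, hk, rfl⟩ := hall s hs
      have hk1 : trOne (S.sub j).T k = true := (htrace j hj k).mp h1
      have hk0 : k ≠ 0 := by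
        rintro rfl
        rw [(htr j hj).1] at hk1
        exact Bool.false_ne_true hk1
      rcases (htr j hj).2 with hEC | hno
      · obtain ⟨hL, e⟩ := brFix_eq hτ C (hbr j hj)
        obtain ⟨hL', e'⟩ := hu j hj
        have hgen : u j ∈ Subgroup.zpowers (u j ^ k) := by
          obtain ⟨m, hm⟩ : ∃ m, m < 7 ∧ k * m % 7 = 1 := by
            interval_cases k <;> first
              | exact absurd rfl hk0
              | decide
          refine ⟨(m : ℤ), ?_⟩
          show (u j ^ k) ^ (m : ℤ) = u j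
          rw [zpow_natCast, ← pow_mul, pow_eq_pow_mod _ (hmem j hj).2, hm.2, pow_one]
        have hfix : ∀ z, act C (u j ^ k) z = z → z ∈ fixP C (Subgroup.zpowers (gOf hτ C hL)) :=
          fun z hz => fixP_zpowers C (by
            have := fixP_zpowers C hz _ hgen
            rwa [e'] at this)
        have hle : colSpan τ (S.sub j).B ≤ colSpan τ S.B := colSpan_le fun c hc => by
          rw [← hEC c hc]; exact mv_mem hτ _ _
        refine hle (e ▸ Submodule.subset_span ⟨x, hfix x hx, y, hfix y hy, rfl⟩)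
      · rw [hno k hk] at hk1
        exact absurd hk1 Bool.false_ne_true
    · rcases colOr_spec hsel hc with ⟨-, h⟩ | h0
      · simp only [Bool.and_eq_true, Nat.blt_eq, peq_iff] at h
        obtain ⟨⟨⟨⟨hj, hx⟩, hy⟩, h1⟩, e⟩ := h
        set j := (S.sel.getD c (0, 0, 0)).1
        obtain ⟨hL, e'⟩ := hu j hj
        have hfix := (hfixes j hj).resolve_right fun hno => by simp [h1] at hno
        obtain ⟨-, hf2⟩ := fix_eq hτ C hL hfix
        rw [e, pv_brM hτ]
        refine Submodule.subset_span ⟨u j, (hmem j hj).1, ?_, _, ?_, _, ?_, rfl⟩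
        · have := (htrace j hj 1).mpr h1
          rwa [pow_one] at this
        · rw [e']; exact hf2 (col_mem _ hx) _ (Subgroup.mem_zpowers _)
        · rw [e']; exact hf2 (col_mem _ hy) _ (Subgroup.mem_zpowers _)
      · rw [h0, pv_zero]; exact zero_mem _
  obtain ⟨hL, e⟩ := hu i (by omega)
  refine notMax_data hτ C P hL (e ▸ (hmem i (by omega)).1) (hW ▸ brTr_inv C P) hS ?_
  refine fixP_closure C fun s hs => ?_
  rcases hs with hs | hs
  · obtain ⟨hL0, e0⟩ := hu 0 (by norm_num)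
    rw [hs, ← hu0, e0, act_pv]
    exact congrArg (pv τ) (peq_iff.mp hfa)
  · obtain ⟨hL1, e1⟩ := hu 1 (by norm_num)
    rw [Set.mem_singleton_iff.mp hs, ← hu1, e1, act_pv]
    exact congrArg (pv τ) (peq_iff.mp hfb)

end CfsgLib.Coset.E6TwLocal
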